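/-
Groups acting on a set so that every element of order `p` has exactly one fixed point, and quadratic offenders
in such groups: two offenders with different fixed points meet in a subspace of index `q ^ 2`.
-/
import Mathlib.GroupTheory.Sylow
import Mathlib.GroupTheory.Index
import Mathlib.GroupTheory.PGroup
import Mathlib.GroupTheory.GroupAction.Quotient
import Mathlib.Algebra.Group.Subgroup.Pointwise

set_option autoImplicit false
set_option linter.unusedSectionVars false
set_option linter.style.haveILetI false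

namespace Cfsg.Agent.FFEmb

variable {H : Type*} [Group H] {V : Type*} [AddCommGroup V] [DistribMulAction H V]
  {Ω : Type*} [MulAction H Ω] {p : ℕ}

/-- An element of `p`-power order. -/
def IsPEl (p : ℕ) (g : H) : Prop := ∃ n, g ^ p ^ n = 1

/-- The fixed vectors of a subgroup. -/
def fx (V : Type*) [AddCommGroup V] [DistribMulAction H V] (B : Subgroup H) : AddSubgroup V where
  carrier := {v | ∀ b ∈ B, b • v = v}
  zero_mem' := fun b _ => smul_zero b
  add_mem' := fun hx hy b hb => by rw [smul_add, hx b hb, hy b hb]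
  neg_mem' := fun hx b hb => by rw [smul_neg, hx b hb]

/-- The vectors fixed by all `p`-elements of a subgroup. -/
def fp (V : Type*) [AddCommGroup V] [DistribMulAction H V] (p : ℕ) (K : Subgroup H) : AddSubgroup V where
  carrier := {v | ∀ g ∈ K, IsPEl p g → g • v = v}
  zero_mem' := fun g _ _ => smul_zero g
  add_mem' := fun hx hy g hg hp => by rw [smul_add, hx g hg hp, hy g hg hp]
  neg_mem' := fun hx g hg hp => by rw [smul_neg, hx g hg hp]

theorem mem_fx {B : Subgroup H} {v : V} : v ∈ fx V B ↔ ∀ b ∈ B, b • v = v := Iff.rfl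

theorem mem_fp {K : Subgroup H} {v : V} : v ∈ fp V p K ↔ ∀ g ∈ K, IsPEl p g → g • v = v := Iff.rfl

/-- All elements of `B` fix the point `x`. -/
def At (B : Subgroup H) (x : Ω) : Prop := ∀ b ∈ B, b • x = x

/-- The standing hypothesis: a faithful action on `V` of exponent `p` and an action on `Ω` in which every element
of order `p` has exactly one fixed point. -/
structure Sys (p : ℕ) (H : Type*) [Group H] (V : Type*) [AddCommGroup V] [DistribMulAction H V]
    (Ω : Type*) [MulAction H Ω] : Prop where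
  faith : ∀ g : H, (∀ v : V, g • v = v) → g = 1
  exp : ∀ v : V, p • v = 0
  ex : ∀ g : H, orderOf g = p → ∃ x : Ω, g • x = x
  uniq : ∀ g : H, orderOf g = p → ∀ x y : Ω, g • x = x → g • y = y → x = y

/-- `K` has nontrivial `p`-elements with two different fixed points. -/
def TwoPts (p : ℕ) (Ω : Type*) [MulAction H Ω] (K : Subgroup H) : Prop :=
  ∃ s ∈ K, ∃ t ∈ K, ∃ x y : Ω, x ≠ y ∧ s ≠ 1 ∧ t ≠ 1 ∧ IsPEl p s ∧ IsPEl p t ∧ s • x = x ∧ t • y = y

/-- A quadratic offender on `V`. -/
structure Off (p : ℕ) (V : Type*) [AddCommGroup V] [DistribMulAction H V] (A : Subgroup H) : Prop where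
  pgroup : IsPGroup p A
  ne_bot : A ≠ ⊥
  bound : Nat.card V ≤ Nat.card A * Nat.card (fx V A)
  quad : ∀ a ∈ A, ∀ v : V, a • v - v ∈ fx V A

/-- The conclusion of the main theorem for a subgroup `K` and a quadratic offender `A ≤ K`. -/
structure Concl (p : ℕ) (V : Type*) [AddCommGroup V] [DistribMulAction H V] (Ω : Type*) [MulAction H Ω]
    (K A : Subgroup H) : Prop where
  card_eq : Nat.card V = Nat.card A ^ 2 * Nat.card (fp V p K)
  le_node : ∀ R : Subgroup H, R ≤ K → IsPGroup p R → ∀ x : Ω, At A x → At R x → R ≤ A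
  points : Nat.card {x : Ω // ∃ g ∈ K, g ≠ 1 ∧ IsPEl p g ∧ g • x = x} = Nat.card A + 1

theorem isPEl_of_mem {B : Subgroup H} (hB : IsPGroup p B) {b : H} (hb : b ∈ B) : IsPEl p b := by
  obtain ⟨n, hn⟩ := hB ⟨b, hb⟩
  exact ⟨n, congrArg Subtype.val hn⟩

theorem IsPEl.zpowers {g : H} (hg : IsPEl p g) : IsPGroup p (Subgroup.zpowers g) := by
  obtain ⟨n, hn⟩ := hg
  rintro ⟨_, k, rfl⟩
  refine ⟨n, Subtype.ext ?_⟩
  rw [SubmonoidClass.coe_pow]
  show (g ^ k) ^ p ^ n = (1 : H)
  rw [← zpow_natCast, ← zpow_mul, mul_comm, zpow_mul, zpow_natCast, hn, one_zpow]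

theorem IsPEl.conj {g : H} (hg : IsPEl p g) (k : H) : IsPEl p (k * g * k⁻¹) := by
  obtain ⟨n, hn⟩ := hg
  exact ⟨n, by rw [conj_pow, hn]; group⟩

theorem smul_fixed_pow {g : H} {x : Ω} (h : g • x = x) : ∀ m : ℕ, g ^ m • x = x
  | 0 => by rw [pow_zero, one_smul]
  | m + 1 => by rw [pow_succ, mul_smul, h, smul_fixed_pow h m]

variable [Fact p.Prime]

theorem exists_order_p {g : H} (hg : IsPEl p g) (hne : g ≠ 1) : ∃ m : ℕ, orderOf (g ^ m) = p := by
  obtain ⟨n, hn⟩ := hg
  obtain ⟨k, -, hk⟩ := (Nat.dvd_prime_pow Fact.out).1 (orderOf_dvd_of_pow_eq_one hn)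
  rcases k with - | k
  · exact absurd (orderOf_eq_one_iff.1 (by simpa using hk)) hne
  refine ⟨p ^ k, ?_⟩
  rw [orderOf_pow' g (pow_ne_zero _ (Fact.out : p.Prime).ne_zero), hk, Nat.gcd_eq_right (pow_dvd_pow p (by omega)),
    Nat.pow_div (by omega) (Fact.out : p.Prime).pos, show k + 1 - k = 1 by omega, pow_one]

namespace Sys

variable (hS : Sys p H V Ω)
include hS

theorem fix_unique {g : H} (hne : g ≠ 1) (hg : IsPEl p g) {x y : Ω} (hx : g • x = x) (hy : g • y = y) : x = y := by
  obtain ⟨m, hm⟩ := exists_order_p hg hne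
  exact hS.uniq _ hm x y (smul_fixed_pow hx m) (smul_fixed_pow hy m)

theorem exists_at [Finite H] {B : Subgroup H} (hB : IsPGroup p B) (hne : B ≠ ⊥) : ∃ x : Ω, At B x := by
  haveI : Nontrivial B := (Subgroup.nontrivial_iff_ne_bot B).2 hne
  obtain ⟨z, hz⟩ := exists_prime_orderOf_dvd_card' (G := Subgroup.center B) p (by
    haveI := hB.center_nontrivial
    obtain ⟨n, hn⟩ := IsPGroup.iff_card.1 (hB.to_subgroup (Subgroup.center B))
    rcases n with - | n
    · rw [pow_zero] at hn
      have := Finite.one_lt_card (α := Subgroup.center B); omega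
    exact ⟨p ^ n, by rw [hn, pow_succ']⟩)
  have hzo : orderOf ((z : B) : H) = p := by rw [Subgroup.orderOf_coe, Subgroup.orderOf_coe, hz]
  obtain ⟨x, hx⟩ := hS.ex _ hzo
  refine ⟨x, fun b hb => hS.uniq _ hzo _ _ ?_ hx⟩
  have hc : ((z : B) : H) * b = b * ((z : B) : H) :=
    congrArg Subtype.val (Subgroup.mem_center_iff.1 z.2 ⟨b, hb⟩).symm
  rw [← mul_smul, hc, mul_smul, hx]

theorem at_unique {B : Subgroup H} (hB : IsPGroup p B) (hne : B ≠ ⊥) {x y : Ω} (hx : At B x) (hy : At B y) :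
    x = y := by
  obtain ⟨b, hb, hb1⟩ := (Subgroup.bot_or_exists_ne_one B).resolve_left hne
  exact hS.fix_unique hb1 (isPEl_of_mem hB hb) (hx b hb) (hy b hb)

end Sys

/-- The elements fixing `C` pointwise and acting trivially on `V / C`. -/
def chain (C : AddSubgroup V) : Subgroup H where
  carrier := {g | (∀ c ∈ C, g • c = c) ∧ ∀ v : V, g • v - v ∈ C}
  one_mem' := ⟨fun c _ => one_smul H c, fun v => by rw [one_smul, sub_self]; exact zero_mem C⟩
  mul_mem' := fun {g h} hg hh => ⟨fun c hc => by rw [mul_smul, hh.1 c hc, hg.1 c hc], fun v => by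
    have : (g * h) • v - v = g • (h • v - v) + (g • v - v) := by rw [mul_smul, smul_sub]; abel
    rw [this, hg.1 _ (hh.2 v)]
    exact add_mem (hh.2 v) (hg.2 v)⟩
  inv_mem' := fun {g} hg => ⟨fun c hc => inv_smul_eq_iff.2 (hg.1 c hc).symm, fun v => by
    have : g⁻¹ • v - v = -(g • (g⁻¹ • v) - g⁻¹ • v) := by rw [smul_inv_smul]; abel
    rw [this]
    exact neg_mem (hg.2 _)⟩

theorem isPGroup_chain (hS : Sys p H V Ω) (C : AddSubgroup V) : IsPGroup p (chain (H := H) C) := by
  rintro ⟨g, hg⟩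
  refine ⟨1, Subtype.ext (hS.faith _ fun v => ?_)⟩
  rw [SubmonoidClass.coe_pow, pow_one]
  have h : ∀ n : ℕ, g ^ n • v = v + n • (g • v - v) := by
    intro n
    induction n with
    | zero => simp
    | succ n ih => rw [pow_succ', mul_smul, ih, smul_add, hg.1 _ (nsmul_mem (hg.2 v) n), succ_nsmul]; abel
  rw [h, hS.exp, add_zero]

/-- In a subgroup with two points no nontrivial element stabilizes a series through a centralized subspace. -/
theorem chain_inter_eq_one [Finite H] (hS : Sys p H V Ω) {K : Subgroup H} (hK : TwoPts p Ω K) {C : AddSubgroup V}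
    (hC : ∀ k ∈ K, ∀ c ∈ C, k • c = c) {g : H} (hgK : g ∈ K) (hg : g ∈ chain C) : g = 1 := by
  by_contra hne
  set Q : Subgroup H := K ⊓ chain C with hQ
  have hQne : Q ≠ ⊥ := fun h => hne (by
    have : g ∈ Q := ⟨hgK, hg⟩
    rwa [h, Subgroup.mem_bot] at this)
  have hQp : IsPGroup p Q := (isPGroup_chain hS C).to_le inf_le_right
  obtain ⟨x, hx⟩ := hS.exists_at hQp hQne
  have hfix : ∀ k ∈ K, k • x = x := fun k hk => by
    refine hS.at_unique hQp hQne (fun b hb => ?_) hx
    obtain ⟨hbK, hb1, hb2⟩ := hb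
    have hmem : k⁻¹ * b * k ∈ Q := by
      refine ⟨K.mul_mem (K.mul_mem (K.inv_mem hk) hbK) hk, fun c hc => ?_, fun v => ?_⟩
      · rw [mul_smul, mul_smul, hC k hk c hc, hb1 c hc, inv_smul_eq_iff, hC k hk c hc]
      · have h1 := hC k⁻¹ (inv_mem hk) _ (hb2 (k • v))
        rw [smul_sub, inv_smul_smul] at h1
        rw [mul_smul, mul_smul, h1]
        exact hb2 _
    have h2 := hx _ hmem
    rwa [mul_smul, mul_smul, inv_smul_eq_iff] at h2
  obtain ⟨s, hs, t, ht, u, w, huw, hs1, ht1, hsp, htp, hsu, htw⟩ := hK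
  exact huw ((hS.fix_unique hs1 hsp hsu (hfix s hs)).trans (hS.fix_unique ht1 htp (hfix t ht) htw))

/-- The conjugate subgroup. -/
abbrev conjS (k : H) (A : Subgroup H) : Subgroup H := A.map (MulAut.conj k).toMonoidHom

theorem mem_conjS {k : H} {A : Subgroup H} {x : H} : x ∈ conjS k A ↔ k⁻¹ * x * k ∈ A := by
  constructor
  · rintro ⟨y, hy, rfl⟩
    simpa [mul_assoc] using hy
  · exact fun h => ⟨_, h, by simp [mul_assoc]⟩

theorem conjS_mul (k l : H) (A : Subgroup H) : conjS k (conjS l A) = conjS (k * l) A := by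
  ext x; simp only [mem_conjS, mul_inv_rev, mul_assoc]

theorem conjS_one (A : Subgroup H) : conjS 1 A = A := by ext x; simp [mem_conjS]

theorem conjS_le {k : H} {A K : Subgroup H} (hk : k ∈ K) (hA : A ≤ K) : conjS k A ≤ K := by
  rintro _ ⟨a, ha, rfl⟩
  exact mul_mem (mul_mem hk (hA ha)) (inv_mem hk)

theorem card_conjS (k : H) (A : Subgroup H) : Nat.card (conjS k A) = Nat.card A :=
  (Nat.card_congr (A.equivMapOfInjective _ (MulAut.conj k).injective).toEquiv).symm

theorem mem_fx_conjS {k : H} {A : Subgroup H} {v : V} : v ∈ fx V (conjS k A) ↔ k⁻¹ • v ∈ fx V A := by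
  constructor
  · intro h a ha
    have h1 := h (k * a * k⁻¹) ⟨a, ha, rfl⟩
    rw [mul_smul, mul_smul] at h1
    exact (eq_inv_smul_iff.2 h1)
  · rintro h _ ⟨a, ha, rfl⟩
    show (k * a * k⁻¹) • v = v
    rw [mul_smul, mul_smul, h a ha, smul_inv_smul]

theorem card_fx_conjS (k : H) (A : Subgroup H) : Nat.card (fx V (conjS k A)) = Nat.card (fx V A) :=
  Nat.card_congr
    { toFun := fun v => ⟨k⁻¹ • (v : V), mem_fx_conjS.1 v.2⟩
      invFun := fun v => ⟨k • (v : V), mem_fx_conjS.2 (by rw [inv_smul_smul]; exact v.2)⟩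
      left_inv := fun v => Subtype.ext (smul_inv_smul k _)
      right_inv := fun v => Subtype.ext (inv_smul_smul k _) }

theorem at_conjS {k : H} {A : Subgroup H} {x : Ω} (h : At A x) : At (conjS k A) (k • x) := by
  rintro _ ⟨a, ha, rfl⟩
  show (k * a * k⁻¹) • k • x = k • x
  rw [mul_smul, mul_smul, inv_smul_smul, h a ha]

theorem Off.conj {A : Subgroup H} (hA : Off p V A) (k : H) : Off p V (conjS k A) := by
  refine ⟨hA.pgroup.map _, fun h => hA.ne_bot ?_, by rw [card_conjS, card_fx_conjS]; exact hA.bound, ?_⟩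
  · exact (Subgroup.map_eq_bot_iff_of_injective A (MulAut.conj k).injective).1 h
  · rintro _ ⟨a, ha, rfl⟩ v
    rw [mem_fx_conjS]
    show k⁻¹ • ((k * a * k⁻¹) • v - v) ∈ fx V A
    rw [mul_smul, mul_smul, smul_sub, inv_smul_smul]
    exact hA.quad a ha _

/-- A subgroup of a finite group acting without fixed points outside `1` divides the number of points. -/
theorem card_dvd_of_free {R : Type*} [Group R] [Finite R] {X : Type*} [Finite X] [MulAction R X]
    (h : ∀ (r : R) (x : X), r • x = x → r = 1) : Nat.card R ∣ Nat.card X := by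
  classical
  haveI := Fintype.ofFinite (MulAction.orbitRel.Quotient R X)
  rw [Nat.card_congr (MulAction.selfEquivSigmaOrbits R X), Nat.card_sigma]
  refine Finset.dvd_sum fun q _ => dvd_of_eq ?_
  rw [Nat.card_congr (MulAction.orbitEquivQuotientStabilizer R q.out)]
  have : MulAction.stabilizer R q.out = ⊥ := (Subgroup.eq_bot_iff_forall _).2 fun r hr => h r _ hr
  rw [this, Nat.card_congr QuotientGroup.quotientBot.toEquiv]

/-- `|C| |C'| ≤ |V| |C ∩ C'|`. -/
theorem card_mul_card_le [Finite V] (C D : AddSubgroup V) :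
    Nat.card C * Nat.card D ≤ Nat.card V * Nat.card ↥(C ⊓ D) := by
  classical
  haveI := Fintype.ofFinite V
  have h1 := AddSubgroup.card_mul_index ((C ⊓ D).addSubgroupOf D)
  rw [Nat.card_congr (AddSubgroup.addSubgroupOfEquivOfLe (inf_le_right : C ⊓ D ≤ D)).toEquiv] at h1
  have h2 : ((C ⊓ D).addSubgroupOf D).index ≤ C.index := by
    rw [AddSubgroup.index, AddSubgroup.index]
    let f : (↥D ⧸ (C ⊓ D).addSubgroupOf D) → V ⧸ C := Quotient.map' Subtype.val fun x y hxy => by
      rw [QuotientAddGroup.leftRel_apply] at hxy ⊢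
      exact (AddSubgroup.mem_inf.1 hxy).1
    refine Nat.card_le_card_of_injective f fun x y => ?_
    induction x using QuotientAddGroup.induction_on with
    | H x =>
      induction y using QuotientAddGroup.induction_on with
      | H y =>
        intro hxy
        rw [QuotientAddGroup.eq]
        exact AddSubgroup.mem_inf.2 ⟨QuotientAddGroup.eq.1 hxy, (-x + y).2⟩
  rw [← h1, ← AddSubgroup.card_mul_index C]
  calc Nat.card C * (Nat.card ↥(C ⊓ D) * ((C ⊓ D).addSubgroupOf D).index)
      ≤ Nat.card C * (Nat.card ↥(C ⊓ D) * C.index) := by gcongr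
    _ = Nat.card C * C.index * Nat.card ↥(C ⊓ D) := by ring

/-- The induction hypothesis for `K`. -/
def IH (p : ℕ) (V : Type*) [AddCommGroup V] [DistribMulAction H V] (Ω : Type*) [MulAction H Ω]
    (K : Subgroup H) : Prop :=
  ∀ K' : Subgroup H, K' < K → TwoPts p Ω K' → ∀ A : Subgroup H, A ≤ K' → Off p V A → Concl p V Ω K' A

/-- The pointwise stabilizer of a subspace inside `K`. -/
def stabIn (K : Subgroup H) (W : AddSubgroup V) : Subgroup H where
  carrier := {g | g ∈ K ∧ ∀ w ∈ W, g • w = w}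
  one_mem' := ⟨one_mem K, fun w _ => one_smul H w⟩
  mul_mem' := fun hg hh => ⟨mul_mem hg.1 hh.1, fun w hw => by rw [mul_smul, hh.2 w hw, hg.2 w hw]⟩
  inv_mem' := fun hg => ⟨inv_mem hg.1, fun w hw => inv_smul_eq_iff.2 (hg.2 w hw).symm⟩

theorem twoPts_of_at {K A B : Subgroup H} (hA : IsPGroup p A) (hAne : A ≠ ⊥) (hB : IsPGroup p B) (hBne : B ≠ ⊥)
    (hAK : A ≤ K) (hBK : B ≤ K) {x y : Ω} (hx : At A x) (hy : At B y) (hxy : x ≠ y) : TwoPts p Ω K := by
  obtain ⟨s, hs, hs1⟩ := (Subgroup.bot_or_exists_ne_one A).resolve_left hAne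
  obtain ⟨t, ht, ht1⟩ := (Subgroup.bot_or_exists_ne_one B).resolve_left hBne
  exact ⟨s, hAK hs, t, hBK ht, x, y, hxy, hs1, ht1, isPEl_of_mem hA hs, isPEl_of_mem hB ht, hx s hs, hy t ht⟩

theorem fp_le_fx {K A : Subgroup H} (hA : IsPGroup p A) (hAK : A ≤ K) : fp V p K ≤ fx V A :=
  fun _ hv a ha => hv a (hAK ha) (isPEl_of_mem hA ha)

section Pair

variable [Finite H] [Finite V] {K A B : Subgroup H} {x y : Ω}

/-- If an element of `A` moves a vector of `C_V(B)` only within `C_V(A) ∩ C_V(B)`, the vector or the element is trivial. -/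
theorem free (hS : Sys p H V Ω) (hK : TwoPts p Ω K) (hIH : IH p V Ω K) (hA : Off p V A) (hB : Off p V B)
    (hAK : A ≤ K) (hBK : B ≤ K) (hq : Nat.card A = Nat.card B) (hx : At A x) (hy : At B y) (hxy : x ≠ y)
    {a : H} (ha : a ∈ A) (ha1 : a ≠ 1) {v : V} (hv : v ∈ fx V B)
    (hav : a • v - v ∈ fx V A ⊓ fx V B) : v ∈ fx V A ⊓ fx V B := by
  by_contra hvZ
  set W : AddSubgroup V := (fx V A ⊓ fx V B) ⊔ AddSubgroup.zmultiples v with hW
  have hWB : W ≤ fx V B := sup_le inf_le_right (AddSubgroup.zmultiples_le.2 hv)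
  set Y := stabIn K W with hY
  have hBY : B ≤ Y := fun b hb => ⟨hBK hb, fun w hw => hWB hw b hb⟩
  have hB'Y : conjS a⁻¹ B ≤ Y := by
    intro g hg
    refine ⟨conjS_le (inv_mem (hAK ha)) hBK hg, fun w hw => ?_⟩
    have hwB : w ∈ fx V (conjS a⁻¹ B) := by
      rw [mem_fx_conjS, inv_inv]
      obtain ⟨z, hz, u, hu, rfl⟩ := AddSubgroup.mem_sup.1 hw
      rw [smul_add, hz.1 a ha]
      refine add_mem hz.2 ?_
      obtain ⟨k, rfl⟩ := AddSubgroup.mem_zmultiples_iff.1 hu
      have h : a • v ∈ fx V B := by simpa using add_mem hav.2 hv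
      rw [smul_comm]
      exact zsmul_mem h k
    exact hwB g hg
  have hy' : a⁻¹ • y ≠ y := by
    intro h
    rw [inv_smul_eq_iff] at h
    exact hxy (hS.fix_unique ha1 (isPEl_of_mem hA.pgroup ha) (hx a ha) h.symm)
  have hY2 : TwoPts p Ω Y :=
    twoPts_of_at hB.pgroup hB.ne_bot (hB.conj a⁻¹).pgroup (hB.conj a⁻¹).ne_bot hBY hB'Y hy (at_conjS hy) hy'.symm
  rcases eq_or_ne Y K with hYK | hYK
  · refine hvZ ⟨fun b hb => ?_, hv⟩
    have hbY : b ∈ Y := hYK.symm ▸ hAK hb
    exact hbY.2 v (AddSubgroup.mem_sup_right (AddSubgroup.mem_zmultiples v))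
  have hC := hIH Y (lt_of_le_of_ne (fun g hg => hg.1) hYK) hY2 B hBY hB
  have hle : W ≤ fp V p Y := fun w hw g hg _ => hg.2 w hw
  have h1 : Nat.card ↥(fx V A ⊓ fx V B) < Nat.card (fp V p Y) := by
    refine Set.ncard_lt_ncard (s := ((fx V A ⊓ fx V B : AddSubgroup V) : Set V)) ?_ (Set.toFinite _)
    refine ⟨fun w hw => hle (AddSubgroup.mem_sup_left hw), fun h => hvZ (h ?_)⟩
    exact hle (AddSubgroup.mem_sup_right (AddSubgroup.mem_zmultiples v))
  have h2 := card_mul_card_le (fx V A) (fx V B)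
  have h3 : Nat.card V * Nat.card V ≤ (Nat.card V * Nat.card ↥(fx V A ⊓ fx V B)) * Nat.card B ^ 2 := by
    calc Nat.card V * Nat.card V ≤ (Nat.card A * Nat.card (fx V A)) * (Nat.card B * Nat.card (fx V B)) :=
          Nat.mul_le_mul hA.bound hB.bound
      _ = (Nat.card (fx V A) * Nat.card (fx V B)) * Nat.card B ^ 2 := by rw [hq]; ring
      _ ≤ _ := by gcongr
  have h4 : Nat.card V ≤ Nat.card ↥(fx V A ⊓ fx V B) * Nat.card B ^ 2 := by
    rw [mul_assoc] at h3
    exact Nat.le_of_mul_le_mul_left h3 Nat.card_pos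
  have h5 : 0 < Nat.card B ^ 2 := pow_pos Nat.card_pos 2
  rw [hC.card_eq] at h4
  nlinarith

/-- Two offenders with different fixed points. -/
structure PairData (V : Type*) [AddCommGroup V] [DistribMulAction H V] (A B : Subgroup H) : Prop where
  card_V : Nat.card V = Nat.card A ^ 2 * Nat.card ↥(fx V A ⊓ fx V B)
  card_left : Nat.card (fx V A) = Nat.card A * Nat.card ↥(fx V A ⊓ fx V B)
  card_right : Nat.card (fx V B) = Nat.card A * Nat.card ↥(fx V A ⊓ fx V B)
  exists_add : ∀ v : V, ∃ c ∈ fx V A, ∃ d ∈ fx V B, c + d = v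
  fix_eq : ∀ a ∈ A, a ≠ 1 → ∀ v : V, a • v = v → v ∈ fx V A
  comm_inter : ∀ a ∈ A, ∀ v : V, a • v - v ∈ fx V B → a • v = v

theorem pair (hS : Sys p H V Ω) (hK : TwoPts p Ω K) (hIH : IH p V Ω K) (hA : Off p V A) (hB : Off p V B)
    (hAK : A ≤ K) (hBK : B ≤ K) (hq : Nat.card A = Nat.card B) (hx : At A x) (hy : At B y) (hxy : x ≠ y) :
    PairData V A B := by
  classical
  set C := fx V A with hC
  set D := fx V B with hD
  -- the two fixed spaces differ
  have key : ∀ {A B : Subgroup H} {x y : Ω}, Off p V A → Off p V B → A ≤ K → B ≤ K → Nat.card A = Nat.card B →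
      At A x → At B y → x ≠ y → ¬ fx V B ≤ fx V A →
      Nat.card A * Nat.card ↥(fx V A ⊓ fx V B) ≤ Nat.card (fx V A) := by
    intro A B x y hA hB hAK hBK hq hx hy hxy hne
    obtain ⟨v, hv, hvA⟩ := SetLike.not_le_iff_exists.1 hne
    set Z := fx V A ⊓ fx V B
    have hvZ : v ∉ Z := fun h => hvA h.1
    let f : A × Z → fx V A := fun w =>
      ⟨((w.1 : H) • v - v) + (w.2 : V), add_mem (hA.quad _ w.1.2 v) w.2.2.1⟩
    have hf : Function.Injective f := by
      rintro ⟨⟨a, ha⟩, z⟩ ⟨⟨b, hb⟩, z'⟩ h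
      have h' : a • v - v + (z : V) = b • v - v + (z' : V) := congrArg Subtype.val h
      have hd : a • v - b • v = (z' : V) - z := by
        rw [← sub_eq_zero] at h' ⊢
        rw [← h']; abel
      have hab : (b⁻¹ * a) • v - v ∈ Z := by
        have h1 : (b⁻¹ * a) • v - v = b⁻¹ • (a • v - b • v) := by rw [smul_sub, mul_smul, inv_smul_smul]
        rw [h1, hd, (sub_mem z'.2 z.2 : (z' : V) - z ∈ Z).1 b⁻¹ (inv_mem hb)]
        exact sub_mem z'.2 z.2
      obtain rfl : a = b := by
        by_contra hne'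
        exact hvZ (free hS hK hIH hA hB hAK hBK hq hx hy hxy (mul_mem (inv_mem hb) ha)
          (fun h1 => hne' (inv_mul_eq_one.1 h1).symm) hv hab)
      rw [add_right_inj] at h'
      exact Prod.ext rfl (Subtype.ext h')
    have := Nat.card_le_card_of_injective f hf
    rwa [Nat.card_prod] at this
  have hq2 : 2 ≤ Nat.card A := (Subgroup.one_lt_card_iff_ne_bot A).2 hA.ne_bot
  have hV : 0 < Nat.card V := Nat.card_pos
  have hz : 0 < Nat.card ↥(C ⊓ D) := Nat.card_pos
  have hDC : ¬ D ≤ C ∧ ¬ C ≤ D := by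
    have aux : ∀ {A B : Subgroup H} {x y : Ω}, Off p V A → Off p V B → A ≤ K → B ≤ K →
        Nat.card A = Nat.card B → At A x → At B y → x ≠ y → ¬ fx V B ≤ fx V A := by
      intro A B x y hA hB hAK hBK hq hx hy hxy hle
      have hq2 : 2 ≤ Nat.card A := (Subgroup.one_lt_card_iff_ne_bot A).2 hA.ne_bot
      by_cases hAB : fx V A ≤ fx V B
      · -- equal fixed spaces
        have he : fx V A = fx V B := le_antisymm hAB hle
        set Y := stabIn K (fx V A) with hY
        have hAY : A ≤ Y := fun a ha => ⟨hAK ha, fun w hw => hw a ha⟩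
        have hBY : B ≤ Y := fun a ha => ⟨hBK ha, fun w hw => (hAB hw) a ha⟩
        rcases eq_or_ne Y K with hYK | hYK
        · refine hA.ne_bot ((Subgroup.eq_bot_iff_forall A).2 fun a ha =>
            chain_inter_eq_one hS hK (C := fx V A) (fun k hk c hc => (hYK.symm ▸ hk : k ∈ Y).2 c hc)
              (hAK ha) ⟨fun c hc => hc a ha, hA.quad a ha⟩)
        · have hC := hIH Y (lt_of_le_of_ne (fun g hg => hg.1) hYK)
            (twoPts_of_at hA.pgroup hA.ne_bot hB.pgroup hB.ne_bot hAY hBY hx hy hxy) A hAY hA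
          have h1 : Nat.card (fx V A) ≤ Nat.card (fp V p Y) :=
            Nat.card_mono (Set.toFinite _) fun w hw g hg _ => hg.2 w hw
          have h2 := hA.bound
          rw [hC.card_eq] at h2
          have h3 : 0 < Nat.card (fx V A) := Nat.card_pos
          have h4 : 2 * (Nat.card A * Nat.card (fx V A)) ≤ Nat.card A ^ 2 * Nat.card (fp V p Y) := by
            rw [sq, mul_assoc]
            calc 2 * (Nat.card A * Nat.card (fx V A)) ≤ Nat.card A * (Nat.card A * Nat.card (fx V A)) := by gcongr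
              _ ≤ _ := by gcongr
          have h5 : 0 < Nat.card A * Nat.card (fx V A) := Nat.mul_pos (by omega) h3
          omega
      · -- `fx B < fx A`
        have h1 := key hB hA hBK hAK hq.symm hy hx hxy.symm hAB
        have h3 : fx V B ⊓ fx V A = fx V B := inf_eq_left.2 hle
        rw [h3] at h1
        have h4 : 0 < Nat.card (fx V B) := Nat.card_pos
        have h5 : 2 * Nat.card (fx V B) ≤ Nat.card B * Nat.card (fx V B) := by
          rw [← hq]; exact Nat.mul_le_mul_right _ hq2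
        omega
    exact ⟨aux hA hB hAK hBK hq hx hy hxy, aux hB hA hBK hAK hq.symm hy hx hxy.symm⟩
  have k1 := key hA hB hAK hBK hq hx hy hxy hDC.1
  have k2 := key hB hA hBK hAK hq.symm hy hx hxy.symm hDC.2
  rw [← hq, inf_comm] at k2
  have hb1 := hA.bound
  have hb2 := hB.bound
  rw [← hq] at hb2
  have h2 := card_mul_card_le C D
  set q := Nat.card A
  set z := Nat.card ↥(C ⊓ D)
  set c := Nat.card C
  set d := Nat.card D
  set N := Nat.card V
  have hd : d = q * z := by
    refine le_antisymm (Nat.le_of_mul_le_mul_left ?_ (Nat.card_pos (α := C))) k2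
    calc c * d ≤ N * z := h2
      _ ≤ q * c * z := Nat.mul_le_mul_right _ hb1
      _ = c * (q * z) := by ring
  have hc : c = q * z := by
    refine le_antisymm (Nat.le_of_mul_le_mul_left ?_ (Nat.card_pos (α := D))) k1
    calc d * c = c * d := mul_comm _ _
      _ ≤ N * z := h2
      _ ≤ q * d * z := Nat.mul_le_mul_right _ hb2
      _ = d * (q * z) := by ring
  have hN : N = q ^ 2 * z := by
    refine le_antisymm ?_ (Nat.le_of_mul_le_mul_right ?_ hz)
    · rw [hc] at hb1; rw [sq, mul_assoc]; exact hb1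
    · rw [hc, hd] at h2
      calc q ^ 2 * z * z = q * z * (q * z) := by ring
        _ ≤ N * z := h2
  have hadd : ∀ v : V, ∃ c ∈ C, ∃ d ∈ D, c + d = v := by
    intro v
    have htop : C ⊔ D = ⊤ := by
      refine AddSubgroup.eq_top_of_le_card _ (Nat.le_of_mul_le_mul_right ?_ hz)
      let π : C × D → ↥(C ⊔ D) := fun w => ⟨(w.1 : V) + w.2,
        add_mem (AddSubgroup.mem_sup_left w.1.2) (AddSubgroup.mem_sup_right w.2.2)⟩
      calc N * z = q * z * (q * z) := by rw [hN]; ring
        _ = Nat.card (C × D) := by rw [Nat.card_prod]; exact (congrArg₂ (· * ·) hc hd).symm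
        _ ≤ Nat.card (↥(C ⊔ D) × ↥(C ⊓ D)) := by
          refine Nat.card_le_card_of_injective (fun w => (π w,
            (⟨(Classical.choose (AddSubgroup.mem_sup.1 (π w).2)) - w.1, ?_, ?_⟩ : ↥(C ⊓ D)))) ?_
          · exact C.sub_mem (Classical.choose_spec (AddSubgroup.mem_sup.1 (π w).2)).1 w.1.2
          · obtain ⟨-, e, he, hee⟩ := Classical.choose_spec (AddSubgroup.mem_sup.1 (π w).2)
            have : Classical.choose (AddSubgroup.mem_sup.1 (π w).2) - (w.1 : V) = w.2 - e := by
              rw [sub_eq_sub_iff_add_eq_add, hee]; show (w.1 : V) + w.2 = w.2 + w.1; exact add_comm _ _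
            rw [this]
            exact D.sub_mem w.2.2 he
          · intro w w' h
            simp only [Prod.mk.injEq] at h
            obtain ⟨h1, h2⟩ := h
            have h2' := congrArg Subtype.val h2
            simp only [h1, sub_right_inj] at h2'
            have h1' : (w.1 : V) + w.2 = w'.1 + w'.2 := congrArg Subtype.val h1
            rw [h2', add_right_inj] at h1'
            exact Prod.ext (Subtype.ext h2') (Subtype.ext h1')
        _ = Nat.card ↥(C ⊔ D) * z := by rw [Nat.card_prod]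
    exact AddSubgroup.mem_sup.1 (htop ▸ AddSubgroup.mem_top v)
  refine ⟨hN, hc, hd, hadd, fun a ha ha1 v hv => ?_, fun a ha v hv => ?_⟩
  · obtain ⟨c, hc', d, hd', rfl⟩ := hadd v
    rw [smul_add, hc' a ha, add_right_inj] at hv
    refine add_mem hc' (free hS hK hIH hA hB hAK hBK hq hx hy hxy ha ha1 hd' ?_).1
    rw [hv, sub_self]
    exact zero_mem _
  · rcases eq_or_ne a 1 with rfl | ha1
    · exact one_smul H v
    obtain ⟨c, hc', d, hd', rfl⟩ := hadd v
    have he : a • (c + d) - (c + d) = a • d - d := by rw [smul_add, hc' a ha]; abel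
    rw [he] at hv
    have hdC := (free hS hK hIH hA hB hAK hBK hq hx hy hxy ha ha1 hd' ⟨hA.quad a ha d, hv⟩).1
    rw [smul_add, hc' a ha, hdC a ha]

end Pair

end Cfsg.Agent.FFEmb
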