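/-
The main counting theorem: in a group in which elements of order `p` have exactly one fixed point, a quadratic
offender `A` is a Sylow `p`-subgroup, there are `|A| + 1` points and the fixed vectors have index `|A| ^ 2`.
-/
import Cfsg.Agent.Lib.FFEmbedded.Basic
import Mathlib.Tactic.Linarith
import Mathlib.Combinatorics.Enumerative.DoubleCounting
import Mathlib.Algebra.BigOperators.Group.Finset.Basic

set_option autoImplicit false
set_option linter.unusedSectionVars false
set_option linter.style.haveILetI false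
set_option maxHeartbeats 1000000

namespace Cfsg.Agent.FFEmb

/-- The arithmetic behind the count of points. -/
theorem count_arith {q f w j d M : ℕ} (hq : 2 ≤ q) (hf : 1 ≤ f) (hd : 1 ≤ d) (hj : 1 ≤ j) (hM : M = j * d * w)
    (hMle : M ≤ q * w) (hw : w + f ≤ q * f)
    (hineq : (1 + j * q) * ((q + 1) * (q * (w + f))) + (1 + j * q) * (d * M) ≤
      (q + 1) * (q ^ 2 * (w + f)) + (1 + j * q) * ((q + 1) * (M + f)) - (q + 1) * f) : j = 1 := by
  have hfle : (q + 1) * f ≤ (q + 1) * (q ^ 2 * (w + f)) + (1 + j * q) * ((q + 1) * (M + f)) := by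
    refine le_trans ?_ (Nat.le_add_left _ _)
    calc (q + 1) * f ≤ 1 * ((q + 1) * (M + f)) := by rw [one_mul]; exact Nat.mul_le_mul_left _ (Nat.le_add_left _ _)
      _ ≤ _ := Nat.mul_le_mul_right _ (by omega)
  have h : ((1 + j * q : ℕ) : ℤ) * ((q + 1) * (q * (w + f))) + (1 + j * q) * (d * M) + (q + 1) * f ≤
      (q + 1) * (q ^ 2 * (w + f)) + (1 + j * q) * ((q + 1) * (M + f)) := by
    have := Nat.add_le_of_le_sub hfle hineq
    exact_mod_cast this
  subst hM
  by_contra hne
  have hj2 : (2 : ℤ) ≤ j := by exact_mod_cast (show 2 ≤ j by omega)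
  rcases Nat.eq_zero_or_pos w with rfl | hwpos
  · push_cast at h
    have h1 : (1 : ℤ) ≤ f := by exact_mod_cast hf
    have h2 : (2 : ℤ) ≤ q := by exact_mod_cast hq
    have h3 : ((j : ℤ) * q - q) * (((q : ℤ) + 1) * ((q - 1) * f)) ≤ 0 := by nlinarith
    have h4 : 0 < ((j : ℤ) * q - q) * (((q : ℤ) + 1) * ((q - 1) * f)) := by
      refine mul_pos (by nlinarith) (mul_pos (by linarith) (mul_pos (by linarith) (by linarith)))
    linarith
  have he : j * d ≤ q := Nat.le_of_mul_le_mul_right hMle hwpos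
  push_cast at h
  have hwZ : (1 : ℤ) ≤ w := by exact_mod_cast hwpos
  have hq2 : (2 : ℤ) ≤ q := by exact_mod_cast hq
  have hwf : (w : ℤ) ≤ (q - 1) * f := by
    have : ((w + f : ℕ) : ℤ) ≤ ((q * f : ℕ) : ℤ) := by exact_mod_cast hw
    push_cast at this
    linarith
  have hdZ : (1 : ℤ) ≤ d := by exact_mod_cast hd
  set e : ℤ := j * d with he'
  have heq : e ≤ q := by rw [he']; exact_mod_cast he
  -- the bracket
  set B : ℤ := (q + 1) * ((q - 1) * f) + (q + 1) * (q - e) * w + d * e * w with hB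
  have hle : (1 + j * q) * B ≤ (q + 1) * (q + 1) * ((q - 1) * f) + (q + 1) * q ^ 2 * w := by
    rw [hB, he']
    nlinarith [h]
  have he2 : (q : ℤ) * (e * e) * w ≤ (1 + j * q) * (d * e * w) := by
    have : (1 + j * q) * (d * e * w) = d * e * w + q * (e * e) * w := by rw [he']; ring
    have h0 : 0 ≤ d * e * w := mul_nonneg (mul_nonneg (by linarith) (by rw [he']; positivity)) (by linarith)
    linarith
  have hX : 0 ≤ (q + 1) * ((q - 1) * (f : ℤ)) + (q + 1) * (q - e) * w :=
    add_nonneg (mul_nonneg (by linarith) (by linarith))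
      (mul_nonneg (mul_nonneg (by linarith) (by linarith)) (by linarith))
  have hlow : (1 + 2 * q) * ((q + 1) * ((q - 1) * f) + (q + 1) * (q - e) * w) + q * (e * e) * w ≤ (1 + j * q) * B := by
    have h1 : (1 + 2 * (q : ℤ)) * ((q + 1) * ((q - 1) * f) + (q + 1) * (q - e) * w) ≤
        (1 + j * q) * ((q + 1) * ((q - 1) * f) + (q + 1) * (q - e) * w) :=
      mul_le_mul_of_nonneg_right (by nlinarith) hX
    rw [hB, mul_add (1 + (j : ℤ) * q)]
    linarith
  have hg : 0 < (q : ℤ) * (q + 1) + (1 + 2 * q) * (q + 1) * (q - e) + q * (e * e) - (q + 1) * q ^ 2 := by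
    have h1 : 0 ≤ ((q : ℤ) - e) * ((2 * q + 1) * (q + 1) - q * (q + e)) :=
      mul_nonneg (by linarith) (by nlinarith)
    nlinarith
  have h5 : 0 < w * ((q : ℤ) * (q + 1) + (1 + 2 * q) * (q + 1) * (q - e) + q * (e * e) - (q + 1) * q ^ 2) :=
    mul_pos (by linarith) hg
  have h6 : (q : ℤ) * (q + 1) * w ≤ q * (q + 1) * ((q - 1) * f) :=
    mul_le_mul_of_nonneg_left hwf (by positivity)
  nlinarith

variable {H : Type*} [Group H] [Finite H] {V : Type*} [AddCommGroup V] [Finite V] [DistribMulAction H V]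
  {Ω : Type*} [MulAction H Ω] {p : ℕ} [Fact p.Prime]

theorem at_le {B B' : Subgroup H} {x : Ω} (h : At B x) (hle : B' ≤ B) : At B' x := fun b hb => h b (hle hb)

theorem at_sup {B B' : Subgroup H} {x : Ω} (h : At B x) (h' : At B' x) : At (B ⊔ B') x := by
  have : B ⊔ B' ≤ MulAction.stabilizer H x := sup_le (fun b hb => h b hb) fun b hb => h' b hb
  exact fun b hb => this hb

theorem main (hS : Sys p H V Ω) : ∀ K : Subgroup H, TwoPts p Ω K →
    ∀ A : Subgroup H, A ≤ K → Off p V A → Concl p V Ω K A := by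
  intro K
  induction K using (Finite.wellFounded_of_trans_of_irrefl (fun x y : Subgroup H => x < y)).induction with
  | _ K IHK =>
  intro hK A hAK hA
  have hIH : IH p V Ω K := IHK
  classical
  haveI := Fintype.ofFinite V
  haveI := Fintype.ofFinite (Subgroup H)
  obtain ⟨α, hα⟩ := hS.exists_at hA.pgroup hA.ne_bot
  set q := Nat.card A with hqdef
  have hq2 : 2 ≤ q := (Subgroup.one_lt_card_iff_ne_bot A).2 hA.ne_bot
  set F := fp V p K with hF
  set f := Nat.card F with hfdef
  have hf1 : 1 ≤ f := Nat.card_pos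
  -- nodes
  set nodes : Finset (Subgroup H) := Finset.univ.filter (fun B => ∃ k ∈ K, conjS k A = B) with hnodes
  have memN : ∀ {B}, B ∈ nodes ↔ ∃ k ∈ K, conjS k A = B := by simp [hnodes]
  have hAn : A ∈ nodes := memN.2 ⟨1, one_mem K, conjS_one A⟩
  have nK : ∀ {B}, B ∈ nodes → B ≤ K := fun hB => by
    obtain ⟨k, hk, rfl⟩ := memN.1 hB
    exact conjS_le hk hAK
  have nOff : ∀ {B}, B ∈ nodes → Off p V B := fun hB => by
    obtain ⟨k, hk, rfl⟩ := memN.1 hB
    exact hA.conj k
  have nq : ∀ {B}, B ∈ nodes → Nat.card B = q := fun hB => by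
    obtain ⟨k, hk, rfl⟩ := memN.1 hB
    exact card_conjS k A
  have nC : ∀ {B}, B ∈ nodes → Nat.card (fx V B) = Nat.card (fx V A) := fun hB => by
    obtain ⟨k, hk, rfl⟩ := memN.1 hB
    exact card_fx_conjS k A
  have nconj : ∀ {B}, B ∈ nodes → ∀ {k}, k ∈ K → conjS k B ∈ nodes := fun hB k hk => by
    obtain ⟨l, hl, rfl⟩ := memN.1 hB
    exact memN.2 ⟨k * l, mul_mem hk hl, (conjS_mul k l A).symm⟩
  let pt : Subgroup H → Ω := fun B => if h : ∃ x : Ω, At B x then h.choose else α
  have hpt : ∀ {B}, B ∈ nodes → At B (pt B) := fun hB => by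
    have h := hS.exists_at (nOff hB).pgroup (nOff hB).ne_bot
    simp only [pt, dif_pos h]
    exact h.choose_spec
  have pt_eq : ∀ {B}, B ∈ nodes → ∀ {x : Ω}, At B x → pt B = x := fun hB x hx =>
    hS.at_unique (nOff hB).pgroup (nOff hB).ne_bot (hpt hB) hx
  have ptA : pt A = α := pt_eq hAn hα
  have pt_conj : ∀ {B}, B ∈ nodes → ∀ {k}, k ∈ K → pt (conjS k B) = k • pt B := fun hB k hk =>
    pt_eq (nconj hB hk) (at_conjS (hpt hB))
  set P : Finset Ω := nodes.image pt with hP
  have hαP : α ∈ P := Finset.mem_image.2 ⟨A, hAn, ptA⟩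
  have hPinv : ∀ {x}, x ∈ P → ∀ {k}, k ∈ K → k • x ∈ P := fun {x} hx k hk => by
    obtain ⟨B, hB, rfl⟩ := Finset.mem_image.1 hx
    exact Finset.mem_image.2 ⟨_, nconj hB hk, pt_conj hB hk⟩
  have hk0 : ∃ k ∈ K, k • α ≠ α := by
    by_contra h
    push Not at h
    obtain ⟨s, hs, t, ht, x, y, hxy, hs1, ht1, hsp, htp, hsx, hty⟩ := hK
    exact hxy ((hS.fix_unique hs1 hsp hsx (h s hs)).trans (hS.fix_unique ht1 htp (h t ht) hty))
  obtain ⟨k0, hk0K, hk0α⟩ := hk0
  set A' := conjS k0 A with hA'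
  have hA'n : A' ∈ nodes := nconj hAn hk0K
  have hptA' : pt A' = k0 • α := by rw [hA', pt_conj hAn hk0K, ptA]
  -- pairs
  have hpair : ∀ {B B'}, B ∈ nodes → B' ∈ nodes → pt B ≠ pt B' → PairData V B B' := fun hB hB' hne =>
    pair hS hK hIH (nOff hB) (nOff hB') (nK hB) (nK hB') (by rw [nq hB, nq hB']) (hpt hB) (hpt hB') hne
  have hP0 := hpair hAn hA'n (by rw [ptA, hptA']; exact hk0α.symm)
  set z := Nat.card ↥(fx V A ⊓ fx V A') with hzdef
  have hVq : Nat.card V = q ^ 2 * z := hP0.card_V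
  have hz : ∀ {B B'}, B ∈ nodes → B' ∈ nodes → pt B ≠ pt B' → Nat.card ↥(fx V B ⊓ fx V B') = z :=
    fun {B B'} hB hB' hne => by
      have h := (hpair hB hB' hne).card_V
      rw [nq hB, hVq] at h
      exact (Nat.eq_of_mul_eq_mul_left (pow_pos (by omega) 2) h).symm
  have hC : ∀ {B}, B ∈ nodes → Nat.card (fx V B) = q * z := fun hB => (nC hB).trans hP0.card_left
  have hFfx : ∀ {B}, B ∈ nodes → F ≤ fx V B := fun hB => fp_le_fx (nOff hB).pgroup (nK hB)
  have hfz : f ≤ z := Nat.card_mono (Set.toFinite _) fun v hv => ⟨hFfx hAn hv, hFfx hA'n hv⟩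
  set w := z - f with hwdef
  -- vectors with two points
  have hstab : ∀ {B B' v}, B ∈ nodes → B' ∈ nodes → pt B ≠ pt B' → v ∈ fx V B → v ∈ fx V B' → v ∉ F →
      (nodes.filter (fun D => v ∈ fx V D)).card = q + 1 ∧
      (∀ D ∈ nodes, ∀ D' ∈ nodes, v ∈ fx V D → v ∈ fx V D' → pt D = pt D' → D = D') ∧
      ∀ D ∈ nodes, v ∈ fx V D → fx V B ⊓ fx V B' ≤ fx V D := by
    intro B B' v hB hB' hne hvB hvB' hvF
    set K' := stabIn K (AddSubgroup.zmultiples v) with hK'
    have hin : ∀ D ∈ nodes, (v ∈ fx V D ↔ D ≤ K') := fun D hD => by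
      refine ⟨fun h g hg => ⟨nK hD hg, fun u hu => ?_⟩, fun h g hg => (h hg).2 v (AddSubgroup.mem_zmultiples v)⟩
      obtain ⟨n, rfl⟩ := AddSubgroup.mem_zmultiples_iff.1 hu
      rw [smul_comm, h g hg]
    have hlt : K' < K := lt_of_le_of_ne (fun g hg => hg.1) fun h => hvF fun g hg _ =>
      (h.symm ▸ hg : g ∈ K').2 v (AddSubgroup.mem_zmultiples v)
    have h2 : TwoPts p Ω K' := twoPts_of_at (nOff hB).pgroup (nOff hB).ne_bot (nOff hB').pgroup
      (nOff hB').ne_bot ((hin B hB).1 hvB) ((hin B' hB').1 hvB') (hpt hB) (hpt hB') hne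
    have hcon : ∀ D ∈ nodes, v ∈ fx V D → Concl p V Ω K' D := fun D hD hvD =>
      hIH K' hlt h2 D ((hin D hD).1 hvD) (nOff hD)
    have huniq : ∀ D ∈ nodes, ∀ D' ∈ nodes, v ∈ fx V D → v ∈ fx V D' → pt D = pt D' → D = D' :=
      fun D hD D' hD' hvD hvD' he => by
        refine (Subgroup.eq_of_le_of_card_ge ((hcon D hD hvD).le_node D' ((hin D' hD').1 hvD') (nOff hD').pgroup
          (pt D) (hpt hD) (he ▸ hpt hD')) ?_).symm
        rw [nq hD, nq hD']
    refine ⟨?_, huniq, ?_⟩
    · -- the nodes in `K'` correspond to its points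
      have hpts := (hcon B hB hvB).points
      rw [nq hB] at hpts
      rw [← hpts, ← Nat.card_eq_finsetCard]
      have hbij : Function.Bijective (fun D : ↥(nodes.filter (fun D => v ∈ fx V D)) =>
          (⟨pt (D : Subgroup H), by
            obtain ⟨hD, hvD⟩ := Finset.mem_filter.1 D.2
            obtain ⟨g, hg, hg1⟩ := (Subgroup.bot_or_exists_ne_one _).resolve_left (nOff hD).ne_bot
            exact ⟨g, (hin _ hD).1 hvD hg, hg1, isPEl_of_mem (nOff hD).pgroup hg, hpt hD g hg⟩⟩ :
            {x : Ω // ∃ g ∈ K', g ≠ 1 ∧ IsPEl p g ∧ g • x = x})) := by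
        refine ⟨fun D D' h => ?_, fun ⟨x, g, hgK, hg1, hgp, hgx⟩ => ?_⟩
        · obtain ⟨hD, hvD⟩ := Finset.mem_filter.1 D.2
          obtain ⟨hD', hvD'⟩ := Finset.mem_filter.1 D'.2
          exact Subtype.ext (huniq _ hD _ hD' hvD hvD' (congrArg Subtype.val h))
        · -- a Sylow subgroup of `K'` containing `g` contains a conjugate of `B`
          have hBK' : B ≤ K' := (hin B hB).1 hvB
          have hBs : IsPGroup p (B.subgroupOf K') :=
            (nOff hB).pgroup.of_equiv (Subgroup.subgroupOfEquivOfLe hBK').symm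
          have hgs : IsPGroup p ((Subgroup.zpowers g).subgroupOf K') :=
            hgp.zpowers.of_equiv (Subgroup.subgroupOfEquivOfLe (Subgroup.zpowers_le.2 hgK)).symm
          obtain ⟨S, hS1⟩ := hBs.exists_le_sylow
          obtain ⟨S', hS2⟩ := hgs.exists_le_sylow
          obtain ⟨k, hk⟩ := MulAction.exists_smul_eq K' S S'
          set D : Subgroup H := conjS (k : H) B with hD
          have hDn : D ∈ nodes := nconj hB (hlt.le k.2)
          set R : Subgroup H := (S' : Subgroup K').map K'.subtype with hR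
          have hDR : D ≤ R := by
            rintro _ ⟨b, hb, rfl⟩
            refine ⟨k * ⟨b, hBK' hb⟩ * k⁻¹, ?_, rfl⟩
            rw [← hk]
            exact ⟨⟨b, hBK' hb⟩, hS1 (Subgroup.mem_subgroupOf.2 hb), rfl⟩
          have hgR : g ∈ R := ⟨⟨g, hgK⟩, hS2 (Subgroup.mem_subgroupOf.2 (Subgroup.mem_zpowers g)), rfl⟩
          have hRp : IsPGroup p R := S'.2.map _
          obtain ⟨y, hy⟩ := hS.exists_at hRp fun h => hg1 (by rwa [h, Subgroup.mem_bot] at hgR)
          refine ⟨⟨D, Finset.mem_filter.2 ⟨hDn, (hin D hDn).2 (conjS_le k.2 hBK')⟩⟩, Subtype.ext ?_⟩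
          show pt D = x
          rw [pt_eq hDn (at_le hy hDR), hS.fix_unique hg1 hgp (hy g hgR) hgx]
      exact Nat.card_eq_of_bijective _ hbij
    · intro D hD hvD
      have hcK := hcon B hB hvB
      have hsub : fp V p K' ≤ fx V B ⊓ fx V B' := le_inf (fp_le_fx (nOff hB).pgroup ((hin B hB).1 hvB))
        (fp_le_fx (nOff hB').pgroup ((hin B' hB').1 hvB'))
      have he : fp V p K' = fx V B ⊓ fx V B' := by
        refine AddSubgroup.eq_of_le_of_card_ge hsub ?_
        have h := hcK.card_eq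
        rw [nq hB, hVq] at h
        rw [hz hB hB' hne, Nat.eq_of_mul_eq_mul_left (pow_pos (by omega) 2) h]
      rw [← he]
      exact fp_le_fx (nOff hD).pgroup ((hin D hD).1 hvD)
  -- free actions on points
  have hsemi : ∀ R : Subgroup H, R ≤ K → IsPGroup p R → At R α → Nat.card R ∣ P.card - 1 := by
    intro R hRK hRp hRα
    have hsub : ∀ (r : R) (x : {x // x ∈ P.erase α}), ((r : H) • (x : Ω)) ∈ P.erase α := fun r x => by
      obtain ⟨hxα, hxP⟩ := Finset.mem_erase.1 x.2
      refine Finset.mem_erase.2 ⟨fun h => hxα ?_, hPinv hxP (hRK r.2)⟩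
      have := hRα _ (inv_mem r.2)
      nth_rewrite 1 [← h] at this
      rwa [inv_smul_smul] at this
    letI : MulAction R {x // x ∈ P.erase α} :=
      { smul := fun r x => ⟨(r : H) • (x : Ω), hsub r x⟩
        one_smul := fun x => Subtype.ext (one_smul H _)
        mul_smul := fun r s x => Subtype.ext (mul_smul (r : H) s _) }
    have h := card_dvd_of_free (R := R) (X := {x // x ∈ P.erase α}) fun r x hr => by
      by_contra hr1
      exact (Finset.mem_erase.1 x.2).1 (hS.fix_unique (fun h => hr1 (Subtype.ext h)) (isPEl_of_mem hRp r.2)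
        (congrArg Subtype.val hr) (hRα r r.2))
    rwa [Nat.card_eq_finsetCard, Finset.card_erase_of_mem hαP] at h
  have hN2 : 2 ≤ P.card :=
    Finset.one_lt_card.2 ⟨α, hαP, k0 • α, hPinv hαP hk0K, hk0α.symm⟩
  obtain ⟨j, hj⟩ : q ∣ P.card - 1 := hsemi A hAK hA.pgroup hα
  have hj1 : 1 ≤ j := Nat.pos_of_ne_zero fun h => by subst h; omega
  -- nodes at one point
  set d := (nodes.filter (fun B => pt B = α)).card with hddef
  have hd1 : 1 ≤ d := Finset.card_pos.2 ⟨A, Finset.mem_filter.2 ⟨hAn, ptA⟩⟩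
  have hfib : ∀ x ∈ P, (nodes.filter (fun B => pt B = x)).card = d := by
    intro x hx
    obtain ⟨B, hB, rfl⟩ := Finset.mem_image.1 hx
    obtain ⟨k, hk, rfl⟩ := memN.1 hB
    rw [pt_conj hAn hk, ptA, hddef]
    symm
    refine Finset.card_bij (fun D _ => conjS k D) (fun D hD => ?_) (fun D _ D' _ h => ?_) fun D hD => ?_
    · obtain ⟨hD, hDp⟩ := Finset.mem_filter.1 hD
      exact Finset.mem_filter.2 ⟨nconj hD hk, by rw [pt_conj hD hk, hDp]⟩
    · have := congrArg (conjS k⁻¹) h
      rwa [conjS_mul, conjS_mul, inv_mul_cancel, conjS_one, conjS_one] at this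
    · obtain ⟨hD, hDp⟩ := Finset.mem_filter.1 hD
      refine ⟨conjS k⁻¹ D, Finset.mem_filter.2 ⟨nconj hD (inv_mem hk), ?_⟩, ?_⟩
      · rw [pt_conj hD (inv_mem hk), hDp, inv_smul_smul]
      · rw [conjS_mul, mul_inv_cancel, conjS_one]
  have hnodesN : nodes.card = P.card * d := by
    rw [Finset.card_eq_sum_card_image pt nodes, ← hP, Finset.sum_congr rfl hfib, Finset.sum_const, smul_eq_mul]
  -- the vectors lying in two points
  let O : Subgroup H → Finset (Subgroup H) := fun B => nodes.filter (fun D => pt D ≠ pt B)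
  let M : Subgroup H → Finset V := fun B =>
    Finset.univ.filter (fun v => v ∈ fx V B ∧ v ∉ F ∧ ∃ D ∈ O B, v ∈ fx V D)
  have hFcard : (Finset.univ.filter (fun v => v ∈ F)).card = f := by
    rw [hfdef, Nat.card_eq_fintype_card, ← Fintype.card_subtype]
  have hdiff : ∀ {W : AddSubgroup V}, F ≤ W →
      (Finset.univ.filter (fun v => v ∈ W ∧ v ∉ F)).card + f = Nat.card W := by
    intro W hW
    rw [← hFcard, ← Finset.card_union_of_disjoint (Finset.disjoint_left.2 fun v hv hv' =>
      (Finset.mem_filter.1 hv).2.2 (Finset.mem_filter.1 hv').2), Nat.card_eq_fintype_card,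
      ← Fintype.card_congr (Equiv.refl W), Fintype.card_subtype]
    refine congrArg Finset.card ?_
    ext v
    simp only [Finset.mem_union, Finset.mem_filter, Finset.mem_univ, true_and]
    exact ⟨fun h => h.elim And.left fun h => hW h, fun h => (em (v ∈ F)).elim Or.inr fun h' => Or.inl ⟨h, h'⟩⟩
  have hMq : ∀ {B}, B ∈ nodes → q * (M B).card = (P.card - 1) * d * w := by
    intro B hB
    have hO : (O B).card = (P.card - 1) * d := by
      have h := Finset.card_filter_add_card_filter_not (s := nodes) (fun D => pt D = pt B)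
      rw [hfib _ (Finset.mem_image.2 ⟨B, hB, rfl⟩), hnodesN] at h
      show (nodes.filter (fun D => pt D ≠ pt B)).card = _
      rw [Nat.sub_mul, one_mul]
      simp only [ne_eq]
      omega
    have h := Finset.sum_card_bipartiteAbove_eq_sum_card_bipartiteBelow
      (r := fun (v : V) (D : Subgroup H) => v ∈ fx V D) (s := M B) (t := O B)
    rw [Finset.sum_congr rfl (g := fun _ => q) fun v hv => ?_, Finset.sum_const, smul_eq_mul,
      Finset.sum_congr rfl (g := fun _ => w) fun D hD => ?_, Finset.sum_const, smul_eq_mul, hO] at h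
    · rw [mul_comm, h]
    · obtain ⟨hDn, hDp⟩ := Finset.mem_filter.1 hD
      have h1 := hdiff (W := fx V B ⊓ fx V D) (le_inf (hFfx hB) (hFfx hDn))
      rw [hz hB hDn (Ne.symm hDp)] at h1
      have h2 : (Finset.bipartiteBelow (fun (v : V) (D : Subgroup H) => v ∈ fx V D) (M B) D).card =
          (Finset.univ.filter (fun v => v ∈ fx V B ⊓ fx V D ∧ v ∉ F)).card := by
        refine congrArg Finset.card ?_
        ext v
        simp only [Finset.bipartiteBelow, M, Finset.mem_filter, Finset.mem_univ, true_and, AddSubgroup.mem_inf]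
        exact ⟨fun ⟨⟨a, b, _⟩, c⟩ => ⟨⟨a, c⟩, b⟩, fun ⟨⟨a, c⟩, b⟩ => ⟨⟨a, b, D, hD, c⟩, c⟩⟩
      omega
    · obtain ⟨-, hvB, hvF, D, hD, hvD⟩ := Finset.mem_filter.1 hv
      obtain ⟨hDn, hDp⟩ := Finset.mem_filter.1 hD
      obtain ⟨hc, hu, -⟩ := hstab hB hDn (Ne.symm hDp) hvB hvD hvF
      have he : Finset.bipartiteAbove (fun (v : V) (D : Subgroup H) => v ∈ fx V D) (O B) v =
          (nodes.filter (fun D => v ∈ fx V D)).erase B := by
        ext E
        simp only [Finset.bipartiteAbove, O, Finset.mem_filter, Finset.mem_erase]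
        refine ⟨fun ⟨⟨a, b⟩, c⟩ => ⟨fun h => b (h ▸ rfl), a, c⟩, fun ⟨a, b, c⟩ => ⟨⟨b, fun h => a ?_⟩, c⟩⟩
        exact hu E b B hB c hvB h
      rw [he, Finset.card_erase_of_mem (Finset.mem_filter.2 ⟨hB, hvB⟩), hc, Nat.add_sub_cancel]
  have hMB : ∀ {B}, B ∈ nodes → (M B).card = j * d * w := fun hB => by
    have h := hMq hB
    rw [hj, mul_assoc, mul_assoc] at h
    rw [Nat.eq_of_mul_eq_mul_left (by omega) h, mul_assoc]
  have hMle : j * d * w ≤ q * w := by
    -- the commutators of an element of `A` avoid the other points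
    obtain ⟨a, ha, ha1⟩ := (Subgroup.bot_or_exists_ne_one A).resolve_left hA.ne_bot
    let D : AddSubgroup V :=
      (AddMonoidHom.mk' (fun v : V => a • v - v) fun x y => by rw [smul_add]; abel).range
    have hDA : D ≤ fx V A := by rintro _ ⟨v, rfl⟩; exact hA.quad a ha v
    have hDcard : Nat.card D = q := by
      set φ := AddMonoidHom.mk' (fun v : V => a • v - v) fun x y => by rw [smul_add]; abel
      have hker : φ.ker = fx V A := by
        ext v
        rw [AddMonoidHom.mem_ker]
        show a • v - v = 0 ↔ _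
        rw [sub_eq_zero]
        exact ⟨hP0.fix_eq a ha ha1 v, fun h => h a ha⟩
      have h1 := AddSubgroup.card_mul_index φ.ker
      rw [AddSubgroup.index_ker, hker, hC hAn, hVq] at h1
      have h2 : 0 < q * z := Nat.mul_pos (by omega) Nat.card_pos
      exact Nat.eq_of_mul_eq_mul_left h2 (h1.trans (by ring))
    have hdisj : ∀ v ∈ D ⊔ F, v ∉ M A := by
      intro v hv hvM
      obtain ⟨-, hvA, hvF, B, hB, hvB⟩ := Finset.mem_filter.1 hvM
      obtain ⟨hBn, hBp⟩ := Finset.mem_filter.1 hB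
      obtain ⟨_, ⟨u, rfl⟩, c, hc, rfl⟩ := AddSubgroup.mem_sup.1 hv
      have hu : a • u - u ∈ fx V B := by
        have := sub_mem hvB (hFfx hBn hc)
        rwa [add_sub_cancel_right] at this
      have := (hpair hAn hBn (Ne.symm hBp)).comm_inter a ha u hu
      change a • u - u + c ∉ F at hvF
      rw [this, sub_self, zero_add] at hvF
      exact hvF hc
    have hcardDF : q * f ≤ Nat.card ↥(D ⊔ F) := by
      rw [← hDcard, hfdef, ← Nat.card_prod]
      refine Nat.card_le_card_of_injective (fun x => ⟨(x.1 : V) + x.2,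
        add_mem (AddSubgroup.mem_sup_left x.1.2) (AddSubgroup.mem_sup_right x.2.2)⟩) ?_
      rintro ⟨⟨_, u, rfl⟩, c⟩ ⟨⟨_, u', rfl⟩, c'⟩ h
      have h' : (a • u - u) + (c : V) = (a • u' - u') + c' := congrArg Subtype.val h
      have hd : a • (u - u') - (u - u') ∈ fx V A' := by
        have : a • (u - u') - (u - u') = (c' : V) - c := by
          rw [← sub_eq_zero] at h'
          rw [smul_sub, ← sub_eq_zero, ← h']; abel
        rw [this]
        exact hFfx hA'n (F.sub_mem c'.2 c.2)
      have h0 := hP0.comm_inter a ha _ hd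
      have he : a • u - u = a • u' - u' := by
        rw [← sub_eq_zero, show a • u - u - (a • u' - u') = a • (u - u') - (u - u') by rw [smul_sub]; abel, h0,
          sub_self]
      refine Prod.ext (Subtype.ext he) (Subtype.ext ?_)
      rwa [he, add_right_inj] at h'
    have h1 : (M A).card + Nat.card ↥(D ⊔ F) ≤ Nat.card (fx V A) := by
      rw [Nat.card_eq_fintype_card, Fintype.card_subtype, Nat.card_eq_fintype_card, Fintype.card_subtype,
        ← Finset.card_union_of_disjoint (Finset.disjoint_left.2 fun v hv hv' =>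
          hdisj v (Finset.mem_filter.1 hv').2 hv)]
      refine Finset.card_le_card fun v hv => Finset.mem_filter.2 ⟨Finset.mem_univ v, ?_⟩
      rcases Finset.mem_union.1 hv with h | h
      · exact (Finset.mem_filter.1 h).2.1
      · exact sup_le hDA (hFfx hAn) (Finset.mem_filter.1 h).2
    rw [hMB hAn, hC hAn] at h1
    have h2 : q * w = q * z - q * f := by rw [hwdef, Nat.mul_sub]
    omega
  -- all nodes fix a vector as soon as three nodes always share a vector
  have hbig : q * f < z → nodes.card = q + 1 := by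
    intro hzq
    have hall : ∀ B ∈ nodes, fx V A ⊓ fx V A' ≤ fx V B := by
      intro B hB
      have h1 := card_mul_card_le (fx V A ⊓ fx V A') (fx V B)
      rw [hC hB, hVq] at h1
      have h2 : f < Nat.card ↥(fx V A ⊓ fx V A' ⊓ fx V B) := by
        by_contra h
        push Not at h
        have : z * (q * z) ≤ q ^ 2 * z * f := h1.trans (Nat.mul_le_mul_left _ h)
        have h3 : q * z * (q * f) < q * z * z := Nat.mul_lt_mul_of_pos_left hzq (Nat.mul_pos (by omega) Nat.card_pos)
        nlinarith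
      obtain ⟨v, hv, hvF⟩ : ∃ v ∈ fx V A ⊓ fx V A' ⊓ fx V B, v ∉ F := by
        by_contra h
        push Not at h
        exact absurd (Nat.card_mono (Set.toFinite _) (show (↑(fx V A ⊓ fx V A' ⊓ fx V B) : Set V) ⊆ F from h))
          (not_le.2 h2)
      exact (hstab hAn hA'n (by rw [ptA, hptA']; exact hk0α.symm) hv.1.1 hv.1.2 hvF).2.2 B hB hv.2
    obtain ⟨v, hv, hvF⟩ : ∃ v ∈ fx V A ⊓ fx V A', v ∉ F := by
      by_contra h
      push Not at h
      have h' : z ≤ f := Nat.card_mono (Set.toFinite _) (show (↑(fx V A ⊓ fx V A') : Set V) ⊆ F from h)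
      have : f ≤ q * f := Nat.le_mul_of_pos_left f (by omega)
      omega
    obtain ⟨hc, -, -⟩ := hstab hAn hA'n (by rw [ptA, hptA']; exact hk0α.symm) hv.1 hv.2 hvF
    rwa [Finset.filter_true_of_mem fun B hB => hall B hB hv] at hc
  -- global count
  have hrep : ∀ x ∈ P, ∃ B ∈ nodes, pt B = x := fun x hx => Finset.mem_image.1 hx
  have hpure : ∀ rep : Ω → Subgroup H, (∀ x ∈ P, rep x ∈ nodes ∧ pt (rep x) = x) →
      Disjoint (P.biUnion fun x => (Finset.univ.filter (fun v => v ∈ fx V (rep x) ∧ v ∉ F)) \ M (rep x))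
        (nodes.biUnion M) ∧
      (P.biUnion fun x => (Finset.univ.filter (fun v => v ∈ fx V (rep x) ∧ v ∉ F)) \ M (rep x)).card =
        P.card * (q * z - f - j * d * w) ∧ (q + 1) * (nodes.biUnion M).card = P.card * d * (j * d * w) := by
    intro rep hr
    have hsub : ∀ x ∈ P, M (rep x) ⊆ Finset.univ.filter (fun v => v ∈ fx V (rep x) ∧ v ∉ F) := fun x _ v hv => by
      obtain ⟨-, a, b, -⟩ := Finset.mem_filter.1 hv
      exact Finset.mem_filter.2 ⟨Finset.mem_univ v, a, b⟩
    refine ⟨Finset.disjoint_left.2 fun v hv hv' => ?_, ?_, ?_⟩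
    · obtain ⟨x, hx, hvx⟩ := Finset.mem_biUnion.1 hv
      obtain ⟨B, hB, hvB⟩ := Finset.mem_biUnion.1 hv'
      obtain ⟨hvx, hvnM⟩ := Finset.mem_sdiff.1 hvx
      obtain ⟨-, hv1, hv2⟩ := Finset.mem_filter.1 hvx
      obtain ⟨-, hvB, -, D, hD, hvD⟩ := Finset.mem_filter.1 hvB
      obtain ⟨hDn, hDp⟩ := Finset.mem_filter.1 hD
      refine hvnM (Finset.mem_filter.2 ⟨Finset.mem_univ v, hv1, hv2, ?_⟩)
      by_cases h : pt B = pt (rep x)
      · exact ⟨D, Finset.mem_filter.2 ⟨hDn, fun h' => hDp (h'.trans h.symm)⟩, hvD⟩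
      · exact ⟨B, Finset.mem_filter.2 ⟨hB, h⟩, hvB⟩
    · rw [Finset.card_biUnion]
      · rw [Finset.sum_congr rfl (g := fun _ => q * z - f - j * d * w) fun x hx => ?_, Finset.sum_const, smul_eq_mul]
        rw [Finset.card_sdiff_of_subset (hsub x hx), hMB (hr x hx).1]
        have := hdiff (W := fx V (rep x)) (hFfx (hr x hx).1)
        rw [hC (hr x hx).1] at this
        omega
      · intro x hx y hy hxy
        refine Finset.disjoint_left.2 fun v hv hv' => ?_
        obtain ⟨hvx, hvnM⟩ := Finset.mem_sdiff.1 hv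
        obtain ⟨-, hv1, hv2⟩ := Finset.mem_filter.1 hvx
        refine hvnM (Finset.mem_filter.2 ⟨Finset.mem_univ v, hv1, hv2, rep y, Finset.mem_filter.2 ⟨(hr y hy).1, ?_⟩,
          (Finset.mem_filter.1 (Finset.mem_sdiff.1 hv').1).2.1⟩)
        rw [(hr x hx).2, (hr y hy).2]
        exact Ne.symm hxy
    · have h := Finset.sum_card_bipartiteAbove_eq_sum_card_bipartiteBelow
        (r := fun (v : V) (B : Subgroup H) => v ∈ fx V B) (s := nodes.biUnion M) (t := nodes)
      rw [Finset.sum_congr rfl (g := fun _ => q + 1) fun v hv => ?_, Finset.sum_const, smul_eq_mul,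
        Finset.sum_congr rfl (g := fun _ => j * d * w) fun B hB => ?_, Finset.sum_const, smul_eq_mul, hnodesN] at h
      · rw [mul_comm, h]
      · rw [← hMB hB]
        refine congrArg Finset.card ?_
        ext v
        simp only [Finset.bipartiteBelow, Finset.mem_filter, Finset.mem_biUnion]
        constructor
        · rintro ⟨⟨B', hB', hv⟩, hvB⟩
          obtain ⟨-, hvB', hvF, D, hD, hvD⟩ := Finset.mem_filter.1 hv
          obtain ⟨hDn, hDp⟩ := Finset.mem_filter.1 hD
          refine Finset.mem_filter.2 ⟨Finset.mem_univ v, hvB, hvF, ?_⟩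
          by_cases h : pt B' = pt B
          · exact ⟨D, Finset.mem_filter.2 ⟨hDn, fun h' => hDp (h'.trans h.symm)⟩, hvD⟩
          · exact ⟨B', Finset.mem_filter.2 ⟨hB', h⟩, hvB'⟩
        · intro hv
          exact ⟨⟨B, hB, hv⟩, (Finset.mem_filter.1 hv).2.1⟩
      · obtain ⟨B, hB, hvB⟩ := Finset.mem_biUnion.1 hv
        obtain ⟨-, hvB, hvF, D, hD, hvD⟩ := Finset.mem_filter.1 hvB
        obtain ⟨hDn, hDp⟩ := Finset.mem_filter.1 hD
        exact (hstab hB hDn (Ne.symm hDp) hvB hvD hvF).1
  have hchoice : ∀ B ∈ nodes, ∃ rep : Ω → Subgroup H,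
      (∀ x ∈ P, rep x ∈ nodes ∧ pt (rep x) = x) ∧ rep (pt B) = B := by
    intro B hB
    refine ⟨fun x => if x = pt B then B else if h : ∃ D ∈ nodes, pt D = x then h.choose else A, fun x hx => ?_,
      if_pos rfl⟩
    by_cases h : x = pt B
    · simp only [if_pos h]; exact ⟨hB, h.symm⟩
    · simp only [if_neg h, dif_pos (hrep x hx)]; exact (hrep x hx).choose_spec
  have hzwf : z = w + f := by omega
  have hqzf : f + j * d * w ≤ q * z := by
    rw [hzwf, Nat.mul_add]
    have : f ≤ q * f := Nat.le_mul_of_pos_left f (by omega)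
    omega
  -- there are `q + 1` points
  have hjone : j = 1 := by
    rcases lt_or_ge (q * f) z with hzq | hzq
    · have h := hbig hzq
      rw [hnodesN, show P.card = 1 + j * q by rw [mul_comm j q, ← hj]; omega] at h
      have h1 : (1 + j * q) * 1 ≤ (1 + j * q) * d := Nat.mul_le_mul_left _ hd1
      rw [h] at h1
      have h2 : j * q ≤ 1 * q := by omega
      have := Nat.le_of_mul_le_mul_right h2 (by omega)
      omega
    · obtain ⟨rep, hr, -⟩ := hchoice A hAn
      obtain ⟨h1, h2, h3⟩ := hpure rep hr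
      have h4 : (P.biUnion fun x => (Finset.univ.filter (fun v => v ∈ fx V (rep x) ∧ v ∉ F)) \ M (rep x)).card +
          (nodes.biUnion M).card ≤ (Finset.univ.filter (fun v => v ∈ (⊤ : AddSubgroup V) ∧ v ∉ F)).card := by
        rw [← Finset.card_union_of_disjoint h1]
        refine Finset.card_le_card fun v hv => Finset.mem_filter.2 ⟨Finset.mem_univ v, trivial, ?_⟩
        rcases Finset.mem_union.1 hv with h | h
        · obtain ⟨x, -, hx⟩ := Finset.mem_biUnion.1 h
          exact (Finset.mem_filter.1 (Finset.mem_sdiff.1 hx).1).2.2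
        · obtain ⟨B, -, hB⟩ := Finset.mem_biUnion.1 h
          exact (Finset.mem_filter.1 hB).2.2.1
      have h5 := hdiff (W := (⊤ : AddSubgroup V)) le_top
      rw [Nat.card_congr AddSubgroup.topEquiv.toEquiv, hVq] at h5
      refine count_arith (M := j * d * w) hq2 hf1 hd1 hj1 rfl hMle (by omega) ?_
      rw [← hzwf]
      have hN : P.card = 1 + j * q := by rw [mul_comm j q, ← hj]; omega
      rw [h2] at h4
      have h6 : (q + 1) * (P.card * (q * z - f - j * d * w)) + P.card * d * (j * d * w) + (q + 1) * f ≤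
          (q + 1) * (q ^ 2 * z) := by
        rw [← h3, ← Nat.mul_add, ← Nat.mul_add]
        exact Nat.mul_le_mul_left _ (by omega)
      have h7 : q * z - f - j * d * w + (j * d * w + f) = q * z := by omega
      refine Nat.le_sub_of_add_le ?_
      calc (1 + j * q) * ((q + 1) * (q * z)) + (1 + j * q) * (d * (j * d * w)) + (q + 1) * f
          = (1 + j * q) * ((q + 1) * (q * z - f - j * d * w + (j * d * w + f))) +
            (1 + j * q) * (d * (j * d * w)) + (q + 1) * f := by rw [h7]
        _ = ((q + 1) * (P.card * (q * z - f - j * d * w)) + P.card * d * (j * d * w) + (q + 1) * f) +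
            (1 + j * q) * ((q + 1) * (j * d * w + f)) := by rw [hN]; ring
        _ ≤ _ := Nat.add_le_add_right h6 _
  subst hjone
  rw [mul_one] at hj
  have hPq : P.card = q + 1 := by omega
  simp only [one_mul] at hMB hMle hqzf hpure
  -- one node at each point
  have hsame : ∀ B ∈ nodes, pt B = α → fx V B = fx V A → B = A := by
    intro B hB hBp he
    have hch : A ⊔ B ≤ chain (fx V A) := by
      refine sup_le (fun a ha => ⟨fun c hc => hc a ha, hA.quad a ha⟩) fun b hb => ?_
      exact ⟨fun c hc => (he.symm ▸ hc : c ∈ fx V B) b hb, fun v => he ▸ (nOff hB).quad b hb v⟩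
    have h := hsemi (A ⊔ B) (sup_le hAK (nK hB)) ((isPGroup_chain hS _).to_le hch)
      (at_sup hα (hBp ▸ hpt hB))
    rw [hj] at h
    have h1 : A = A ⊔ B := Subgroup.eq_of_le_of_card_ge le_sup_left (Nat.le_of_dvd (by omega) h)
    refine Subgroup.eq_of_le_of_card_ge (le_sup_right.trans h1.ge) ?_
    rw [nq hB]
  have hd : d = 1 := by
    by_cases hw0 : w = 0
    · -- the vectors are covered
      by_contra hne
      obtain ⟨B, hB, hBA⟩ := Finset.exists_mem_ne (show 1 < d by omega) A
      obtain ⟨hBn, hBp⟩ := Finset.mem_filter.1 hB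
      refine hBA (hsame B hBn hBp (AddSubgroup.eq_of_le_of_card_ge ?_ (by rw [hC hAn, hC hBn])))
      obtain ⟨rep, hr, hrA⟩ := hchoice A hAn
      rw [ptA] at hrA
      obtain ⟨-, h2, -⟩ := hpure rep hr
      have hMe : ∀ {D}, D ∈ nodes → M D = ∅ := fun hD => Finset.card_eq_zero.1 (by rw [hMB hD, hw0, mul_zero])
      have hcover : (P.biUnion fun x => (Finset.univ.filter (fun v => v ∈ fx V (rep x) ∧ v ∉ F)) \ M (rep x)) =
          Finset.univ.filter (fun v => v ∈ (⊤ : AddSubgroup V) ∧ v ∉ F) := by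
        refine Finset.eq_of_subset_of_card_le (fun v hv => ?_) (le_of_eq ?_)
        · obtain ⟨x, -, hx⟩ := Finset.mem_biUnion.1 hv
          exact Finset.mem_filter.2 ⟨Finset.mem_univ v, trivial,
            (Finset.mem_filter.1 (Finset.mem_sdiff.1 hx).1).2.2⟩
        · rw [h2, hPq]
          have h5 := hdiff (W := (⊤ : AddSubgroup V)) le_top
          rw [Nat.card_congr AddSubgroup.topEquiv.toEquiv, hVq] at h5
          rw [hw0, mul_zero, Nat.sub_zero]
          have hzf : z = f := by omega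
          rw [hzf] at h5 ⊢
          have h6 : (q + 1) * (q * f - f) + f = q ^ 2 * f := by
            have h8 : f ≤ q * f := Nat.le_mul_of_pos_left f (by omega)
            have h9 : (q + 1) * (q * f - f) + (q + 1) * f = (q + 1) * (q * f) := by
              rw [← Nat.mul_add, Nat.sub_add_cancel h8]
            have h10 : (q + 1) * (q * f) = q ^ 2 * f + q * f := by ring
            have h11 : (q + 1) * f = q * f + f := by ring
            omega
          omega
      intro v hvB
      by_cases hvF : v ∈ F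
      · exact hFfx hAn hvF
      have hv' : v ∈ Finset.univ.filter (fun v => v ∈ (⊤ : AddSubgroup V) ∧ v ∉ F) :=
        Finset.mem_filter.2 ⟨Finset.mem_univ v, trivial, hvF⟩
      rw [← hcover] at hv'
      obtain ⟨x, hx, hvx⟩ := Finset.mem_biUnion.1 hv'
      have hvx' := (Finset.mem_filter.1 (Finset.mem_sdiff.1 hvx).1).2.1
      by_cases hxα : x = α
      · rwa [hxα, hrA] at hvx'
      exfalso
      have : v ∈ M (rep x) := Finset.mem_filter.2 ⟨Finset.mem_univ v, hvx', hvF, B,
        Finset.mem_filter.2 ⟨hBn, by rw [(hr x hx).2, hBp]; exact Ne.symm hxα⟩, hvB⟩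
      rw [hMe (hr x hx).1] at this
      simp at this
    · -- `A` acts freely on the other nodes at its point
      have hwpos : 0 < w := Nat.pos_of_ne_zero hw0
      have hdq : d ≤ q := Nat.le_of_mul_le_mul_right hMle hwpos
      set X := (nodes.filter (fun B => pt B = α)).erase A with hX
      have hXmem : ∀ (a : A) (B : {B // B ∈ X}), conjS (a : H) (B : Subgroup H) ∈ X := by
        intro a B
        obtain ⟨hBA, hB⟩ := Finset.mem_erase.1 B.2
        obtain ⟨hBn, hBp⟩ := Finset.mem_filter.1 hB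
        refine Finset.mem_erase.2 ⟨fun h => hBA ?_, Finset.mem_filter.2 ⟨nconj hBn (hAK a.2), ?_⟩⟩
        · have hself : conjS ((a : H)⁻¹) A = A := by
            ext g; rw [mem_conjS, inv_inv]
            refine ⟨fun h => ?_, fun h => mul_mem (mul_mem a.2 h) (inv_mem a.2)⟩
            have := mul_mem (mul_mem (inv_mem a.2) h) a.2
            simpa [mul_assoc] using this
          have := congrArg (conjS ((a : H)⁻¹)) h
          rwa [conjS_mul, inv_mul_cancel, conjS_one, hself] at this
        · rw [pt_conj hBn (hAK a.2), hBp, hα _ a.2]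
      letI : MulAction A {B // B ∈ X} :=
        { smul := fun a B => ⟨conjS (a : H) B, hXmem a B⟩
          one_smul := fun B => Subtype.ext (conjS_one _)
          mul_smul := fun a b B => Subtype.ext (conjS_mul (a : H) b B).symm }
      have h := card_dvd_of_free (R := A) (X := {B // B ∈ X}) fun a B ha => by
        by_contra ha1
        obtain ⟨hBA, hB⟩ := Finset.mem_erase.1 B.2
        obtain ⟨hBn, hBp⟩ := Finset.mem_filter.1 hB
        have hnorm : (a : H) ∈ Subgroup.normalizer ((B : Subgroup H) : Set H) := by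
          have ha' : conjS (a : H) (B : Subgroup H) = B := congrArg Subtype.val ha
          refine Subgroup.mem_normalizer_iff.2 fun g => ⟨fun hg => ?_, fun hg => ?_⟩
          · rw [← ha']; exact ⟨g, hg, rfl⟩
          · rw [← ha'] at hg
            have hg : (a : H)⁻¹ * ((a : H) * g * (a : H)⁻¹) * (a : H) ∈ (B : Subgroup H) := mem_conjS.1 hg
            simpa [mul_assoc] using hg
        set R : Subgroup H := Subgroup.zpowers (a : H) ⊔ B with hR
        have hRp : IsPGroup p R := (isPEl_of_mem hA.pgroup a.2).zpowers.to_sup_of_normal_right'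
          (nOff hBn).pgroup (Subgroup.zpowers_le.2 hnorm)
        have hdvd := hsemi R (sup_le (Subgroup.zpowers_le.2 (hAK a.2)) (nK hBn)) hRp
          (at_sup (at_le hα (Subgroup.zpowers_le.2 a.2)) (hBp ▸ hpt hBn))
        rw [hj] at hdvd
        have h1 : (B : Subgroup H) = R :=
          Subgroup.eq_of_le_of_card_ge le_sup_right (by rw [nq hBn]; exact Nat.le_of_dvd (by omega) hdvd)
        have haB : (a : H) ∈ (B : Subgroup H) := h1 ▸ Subgroup.mem_sup_left (Subgroup.mem_zpowers _)
        refine hBA (hsame _ hBn hBp (AddSubgroup.eq_of_le_of_card_ge (fun v hv => ?_) (by rw [hC hAn, hC hBn])))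
        exact hP0.fix_eq a a.2 (fun h => ha1 (Subtype.ext h)) v (hv a haB)
      rw [Nat.card_eq_finsetCard, hX, Finset.card_erase_of_mem (Finset.mem_filter.2 ⟨hAn, ptA⟩), ← hddef] at h
      rcases Nat.eq_zero_or_pos (d - 1) with h0 | h0
      · omega
      · have := Nat.le_of_dvd h0 h; omega
  have hnode1 : nodes.card = q + 1 := by rw [hnodesN, hPq, hd, mul_one]
  have huniqA : ∀ B ∈ nodes, pt B = α → B = A := fun B hB hBp =>
    Finset.card_le_one.1 (le_of_eq hd) B (Finset.mem_filter.2 ⟨hB, hBp⟩) A (Finset.mem_filter.2 ⟨hAn, ptA⟩)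
  -- every `p`-subgroup lies in a node
  have hcover : ∀ R : Subgroup H, R ≤ K → IsPGroup p R → ∃ B ∈ nodes, R ≤ B := by
    intro R hRK hRp
    have hAs : IsPGroup p (A.subgroupOf K) := hA.pgroup.of_equiv (Subgroup.subgroupOfEquivOfLe hAK).symm
    have hRs : IsPGroup p (R.subgroupOf K) := hRp.of_equiv (Subgroup.subgroupOfEquivOfLe hRK).symm
    obtain ⟨S, hS1⟩ := hAs.exists_le_sylow
    obtain ⟨S', hS2⟩ := hRs.exists_le_sylow
    obtain ⟨k, hk⟩ := MulAction.exists_smul_eq K S S'
    set Q : Subgroup H := (S : Subgroup K).map K.subtype with hQ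
    have hAQ : A ≤ Q := fun a ha => ⟨⟨a, hAK ha⟩, hS1 (Subgroup.mem_subgroupOf.2 ha), rfl⟩
    obtain ⟨y, hy⟩ := hS.exists_at (S.2.map K.subtype) fun h => hA.ne_bot (le_bot_iff.1 (hAQ.trans h.le))
    obtain rfl := hS.at_unique hA.pgroup hA.ne_bot (at_le hy hAQ) hα
    have hd' := hsemi Q (Subgroup.map_subtype_le _) (S.2.map K.subtype) hy
    rw [hj] at hd'
    have hQA : A = Q := Subgroup.eq_of_le_of_card_ge hAQ (Nat.le_of_dvd (by omega) hd')
    refine ⟨conjS (k : H) A, nconj hAn k.2, fun r hr => ?_⟩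
    have hr' : (⟨r, hRK hr⟩ : K) ∈ (S' : Subgroup K) := hS2 (Subgroup.mem_subgroupOf.2 hr)
    rw [← hk] at hr'
    obtain ⟨s, hs, hse⟩ := hr'
    exact ⟨s, hQA ▸ ⟨s, hs, rfl⟩, congrArg Subtype.val hse⟩
  -- there is no excess
  have hw : w = 0 := by
    by_contra hne
    have hcard := hMB hAn
    rw [hd, one_mul] at hcard
    obtain ⟨v, hv⟩ := Finset.card_pos.1 (show 0 < (M A).card by omega)
    obtain ⟨-, hvA, hvF, D, hD, hvD⟩ := Finset.mem_filter.1 hv
    obtain ⟨hDn, hDp⟩ := Finset.mem_filter.1 hD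
    obtain ⟨hc, -, -⟩ := hstab hAn hDn (Ne.symm hDp) hvA hvD hvF
    have hall : nodes.filter (fun D => v ∈ fx V D) = nodes :=
      Finset.eq_of_subset_of_card_le (Finset.filter_subset _ _) (by rw [hc, hnode1])
    refine hvF fun g hg hgp => ?_
    obtain ⟨B, hB, hle⟩ := hcover _ (Subgroup.zpowers_le.2 hg) hgp.zpowers
    rw [← hall] at hB
    exact (Finset.mem_filter.1 hB).2 g (hle (Subgroup.mem_zpowers g))
  refine ⟨?_, fun R hRK hRp x hAx hRx => ?_, ?_⟩
  · rw [← hF, ← hfdef, hVq, show z = f by omega]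
  · rcases eq_or_ne R ⊥ with rfl | hne
    · exact bot_le
    obtain ⟨B, hB, hle⟩ := hcover R hRK hRp
    obtain rfl := hS.at_unique hA.pgroup hA.ne_bot hAx hα
    have hpB : pt B = x := hS.at_unique hRp hne (at_le (hpt hB) hle) hRx
    rwa [huniqA B hB hpB] at hle
  · rw [← hPq, ← Nat.card_eq_finsetCard P]
    refine Nat.card_congr (Equiv.subtypeEquivRight fun x => ⟨?_, ?_⟩)
    · rintro ⟨g, hg, hg1, hgp, hgx⟩
      obtain ⟨B, hB, hle⟩ := hcover _ (Subgroup.zpowers_le.2 hg) hgp.zpowers
      have hgB := hle (Subgroup.mem_zpowers g)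
      exact Finset.mem_image.2 ⟨B, hB, hS.fix_unique hg1 hgp (hpt hB g hgB) hgx⟩
    · intro hx
      obtain ⟨B, hB, rfl⟩ := Finset.mem_image.1 hx
      obtain ⟨g, hg, hg1⟩ := (Subgroup.bot_or_exists_ne_one B).resolve_left (nOff hB).ne_bot
      exact ⟨g, nK hB hg, hg1, isPEl_of_mem (nOff hB).pgroup hg, hpt hB g hg⟩

end Cfsg.Agent.FFEmb
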