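/-
Finite special Jordan division systems are commutative: an additive subgroup `Φ` of the endomorphisms of a
finite abelian group which contains `1`, is closed under `(a, b) ↦ aba` and whose nonzero members are
invertible consists of pairwise commuting elements and is closed under products.
-/
import Mathlib.RingTheory.LittleWedderburn
import Mathlib.Algebra.Ring.Subring.Basic
import Mathlib.GroupTheory.OrderOfElement
import Mathlib.Tactic.NoncommRing
import Mathlib.Tactic.Abel
import Mathlib.Algebra.CharP.Lemmas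

set_option autoImplicit false
set_option linter.unusedSectionVars false

namespace Cfsg.Agent.FFJordan

/-- Some positive power of an element of a finite monoid is idempotent. -/
theorem exists_idem_pow {M : Type*} [Monoid M] [Finite M] (x : M) :
    ∃ n, 0 < n ∧ x ^ n * x ^ n = x ^ n := by
  obtain ⟨i, j, hne, he⟩ := Finite.exists_ne_map_eq_of_infinite fun n : ℕ => x ^ n
  wlog hij : i < j generalizing i j
  · exact this j i hne.symm he.symm (by omega)
  have hper : ∀ k m, i ≤ m → x ^ (m + k * (j - i)) = x ^ m := by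
    intro k
    induction k with
    | zero => simp
    | succ k ih =>
      intro m hm
      have h1 : x ^ (m + (j - i)) = x ^ m := by
        rw [show m + (j - i) = (m - i) + j by omega, pow_add, ← he, ← pow_add]
        congr 1
        omega
      rw [show m + (k + 1) * (j - i) = (m + (j - i)) + k * (j - i) by ring, ih _ (by omega), h1]
  refine ⟨(i + 1) * (j - i), Nat.mul_pos (by omega) (by omega), ?_⟩
  rw [← pow_add]
  exact hper (i + 1) _ (le_trans (by omega : i ≤ i + 1) (Nat.le_mul_of_pos_right _ (by omega)))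

variable {U : Type*} [AddCommGroup U]

/-- A special Jordan division system of endomorphisms. -/
structure JD (Φ : AddSubgroup (AddMonoid.End U)) : Prop where
  one : (1 : AddMonoid.End U) ∈ Φ
  tri : ∀ {a b}, a ∈ Φ → b ∈ Φ → a * b * a ∈ Φ
  unit : ∀ {a}, a ∈ Φ → a ≠ 0 → IsUnit a

variable {Φ : AddSubgroup (AddMonoid.End U)} (hΦ : JD Φ)

namespace JD

include hΦ

theorem sq {a : AddMonoid.End U} (ha : a ∈ Φ) : a * a ∈ Φ := by
  simpa using hΦ.tri ha hΦ.one

theorem pow {a : AddMonoid.End U} (ha : a ∈ Φ) : ∀ n : ℕ, a ^ n ∈ Φ := by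
  intro n
  induction n using Nat.twoStepInduction with
  | zero => simpa using hΦ.one
  | one => simpa using ha
  | more n ih _ =>
    have h := hΦ.tri ha ih
    rwa [← pow_succ' a n, ← pow_succ] at h

theorem lin {a b c : AddMonoid.End U} (ha : a ∈ Φ) (hb : b ∈ Φ) (hc : c ∈ Φ) :
    a * b * c + c * b * a ∈ Φ := by
  have h : a * b * c + c * b * a = (a + c) * b * (a + c) - a * b * a - c * b * c := by noncomm_ring
  rw [h]
  exact Φ.sub_mem (Φ.sub_mem (hΦ.tri (Φ.add_mem ha hc) hb) (hΦ.tri ha hb)) (hΦ.tri hc hb)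

theorem jord {a b : AddMonoid.End U} (ha : a ∈ Φ) (hb : b ∈ Φ) : a * b + b * a ∈ Φ := by
  simpa using hΦ.lin ha hΦ.one hb

theorem eq_zero_of_kills [Nontrivial U] {a : AddMonoid.End U} (ha : a ∈ Φ) {u : U} (hu : u ≠ 0) (h : a u = 0) : a = 0 := by
  by_contra hne
  obtain ⟨w, hw⟩ := hΦ.unit ha hne
  have h2 := DFunLike.congr_fun w.inv_mul u
  rw [hw] at h2
  change (↑w⁻¹ : AddMonoid.End U) (a u) = u at h2
  rw [h, map_zero] at h2
  exact hu h2.symm

end JD

section Words

variable (a b : AddMonoid.End U)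

/-- A power of one of two given elements. -/
def el (x : Bool × ℕ) : AddMonoid.End U := (if x.1 then a else b) ^ x.2

/-- The product of a list of powers. -/
def pr (l : List (Bool × ℕ)) : AddMonoid.End U := (l.map (el a b)).prod

theorem pr_nil : pr a b [] = 1 := rfl

theorem pr_cons (x : Bool × ℕ) (l : List (Bool × ℕ)) : pr a b (x :: l) = el a b x * pr a b l := by
  simp [pr]

theorem pr_append (l m : List (Bool × ℕ)) : pr a b (l ++ m) = pr a b l * pr a b m := by
  simp [pr]

theorem el_merge {x y : Bool × ℕ} (h : x.1 = y.1) : el a b x * el a b y = el a b (x.1, x.2 + y.2) := by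
  cases hy : y.1 <;> simp [el, h, hy, pow_add]

theorem el_comm {x y : Bool × ℕ} (h : x.1 = y.1) : el a b x * el a b y = el a b y * el a b x := by
  cases hy : y.1 <;> simp [el, h, hy, ← pow_add, add_comm]

variable {a b}

theorem el_mem (hΦ : JD Φ) (ha : a ∈ Φ) (hb : b ∈ Φ) (x : Bool × ℕ) : el a b x ∈ Φ := by
  unfold el
  split_ifs
  · exact hΦ.pow ha _
  · exact hΦ.pow hb _

include hΦ

/-- Two-generator case of the theorem of Shirshov and Cohn on reversible elements. -/
theorem pr_add_mem (ha : a ∈ Φ) (hb : b ∈ Φ) :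
    ∀ (n : ℕ) (l : List (Bool × ℕ)), l.length ≤ n → pr a b l + pr a b l.reverse ∈ Φ := by
  have hel : ∀ x, el a b x ∈ Φ := el_mem hΦ ha hb
  intro n
  induction n with
  | zero =>
    intro l hl
    obtain rfl := List.eq_nil_of_length_eq_zero (by omega : l.length = 0)
    simpa [pr_nil] using Φ.add_mem hΦ.one hΦ.one
  | succ n ih =>
    intro l hl
    rcases l with - | ⟨x, l⟩
    · simpa [pr_nil] using Φ.add_mem hΦ.one hΦ.one
    rcases List.eq_nil_or_concat l with rfl | ⟨m, y, rfl⟩
    · simpa [pr_cons, pr_nil] using Φ.add_mem (hel x) (hel x)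
    simp only [List.length_cons, List.length_append, List.length_nil, List.concat_eq_append] at hl
    rw [List.concat_eq_append]
    by_cases hxy : x.1 = y.1
    · have h1 := ih (m ++ [y]) (by simp; omega)
      have h2 := ih (m ++ [(y.1, y.2 + x.2)]) (by simp; omega)
      have h3 := hΦ.jord (hel x) h1
      have key : pr a b (x :: (m ++ [y])) + pr a b (x :: (m ++ [y])).reverse =
          (el a b x * (pr a b (m ++ [y]) + pr a b (m ++ [y]).reverse) +
            (pr a b (m ++ [y]) + pr a b (m ++ [y]).reverse) * el a b x) -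
          (pr a b (m ++ [(y.1, y.2 + x.2)]) + pr a b (m ++ [(y.1, y.2 + x.2)]).reverse) := by
        simp only [List.reverse_cons, List.reverse_append, List.reverse_nil, List.nil_append, List.cons_append,
          pr_cons, pr_append, pr_nil, mul_one, ← el_merge a b hxy.symm]
        simp only [mul_add, add_mul, mul_assoc]
        rw [← mul_assoc (el a b x) (el a b y) (pr a b m.reverse), el_comm a b hxy, mul_assoc]
        abel
      rw [key]
      exact Φ.sub_mem h3 h2
    · rcases List.eq_nil_or_concat m with rfl | ⟨k, w, rfl⟩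
      · simpa [pr_cons, pr_nil] using hΦ.jord (hel x) (hel y)
      rw [List.concat_eq_append] at hl ⊢
      simp only [List.length_append, List.length_cons, List.length_nil] at hl
      by_cases hwy : w.1 = y.1
      · have h1 := ih (x :: (k ++ [(w.1, w.2 + y.2)])) (by simp; omega)
        convert h1 using 1
        simp only [List.reverse_cons, List.reverse_append, List.reverse_nil, List.nil_append, List.cons_append,
          List.append_assoc, pr_cons, pr_append, pr_nil, mul_one, ← el_merge a b hwy]
        rw [← mul_assoc (el a b y) (el a b w), ← el_comm a b hwy]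
      · have hxw : x.1 = w.1 := by
          revert hxy hwy
          cases x.1 <;> cases y.1 <;> cases w.1 <;> simp
        have h1 := hΦ.lin (hel x) (ih (k ++ [w]) (by simp; omega)) (hel y)
        have h2 := ih ((x.1, x.2 + w.2) :: (k.reverse ++ [y])) (by simp; omega)
        have key : pr a b (x :: (k ++ [w] ++ [y])) + pr a b (x :: (k ++ [w] ++ [y])).reverse =
            (el a b x * (pr a b (k ++ [w]) + pr a b (k ++ [w]).reverse) * el a b y +
              el a b y * (pr a b (k ++ [w]) + pr a b (k ++ [w]).reverse) * el a b x) -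
            (pr a b ((x.1, x.2 + w.2) :: (k.reverse ++ [y])) +
              pr a b ((x.1, x.2 + w.2) :: (k.reverse ++ [y])).reverse) := by
          simp only [List.reverse_cons, List.reverse_append, List.reverse_nil, List.nil_append, List.cons_append,
            List.append_assoc, List.reverse_reverse, pr_cons, pr_append, pr_nil, mul_one, ← el_merge a b hxw]
          have hc := el_comm a b hxw
          simp only [mul_add, add_mul, mul_assoc]
          rw [hc]
          abel
        rw [key]
        exact Φ.sub_mem h1 h2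

/-- Palindromes. -/
theorem pr_mul_mem (ha : a ∈ Φ) (hb : b ∈ Φ) (l : List (Bool × ℕ)) :
    pr a b l * pr a b l.reverse ∈ Φ := by
  induction l with
  | nil => simpa [pr_nil] using hΦ.one
  | cons x l ih =>
    rw [List.reverse_cons, pr_append, pr_cons, pr_cons, pr_nil, mul_one]
    have h := hΦ.tri (el_mem hΦ ha hb x) ih
    simpa [mul_assoc] using h

end Words

/-- The pairs of a word in `a`, `b` and the reversed word, and their sums. -/
def pairs (a b : AddMonoid.End U) : AddSubgroup (AddMonoid.End U × AddMonoid.End U) :=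
  AddSubgroup.closure (Set.range fun l : List (Bool × ℕ) => (pr a b l, pr a b l.reverse))

variable {a b : AddMonoid.End U}

theorem pairs_swap {x : AddMonoid.End U × AddMonoid.End U} (hx : x ∈ pairs a b) :
    (x.2, x.1) ∈ pairs a b := by
  induction hx using AddSubgroup.closure_induction with
  | mem x hx =>
    obtain ⟨l, rfl⟩ := hx
    exact AddSubgroup.subset_closure ⟨l.reverse, by simp⟩
  | zero => exact zero_mem _
  | add x y _ _ hx hy => exact add_mem hx hy
  | neg x _ hx => exact neg_mem hx

theorem pairs_mul {x y : AddMonoid.End U × AddMonoid.End U} (hx : x ∈ pairs a b) (hy : y ∈ pairs a b) :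
    (x.1 * y.1, y.2 * x.2) ∈ pairs a b := by
  induction hx using AddSubgroup.closure_induction with
  | mem x hx =>
    obtain ⟨l, rfl⟩ := hx
    induction hy using AddSubgroup.closure_induction with
    | mem y hy =>
      obtain ⟨m, rfl⟩ := hy
      exact AddSubgroup.subset_closure ⟨l ++ m, by simp [pr_append, List.reverse_append]⟩
    | zero => simp [Prod.mk_zero_zero, zero_mem]
    | add y z _ _ hy hz => simpa [mul_add, add_mul] using add_mem hy hz
    | neg y _ hy => simpa using neg_mem hy
  | zero => simp [Prod.mk_zero_zero, zero_mem]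
  | add x z _ _ hx hz => simpa [mul_add, add_mul] using add_mem hx hz
  | neg x _ hx => simpa using neg_mem hx

theorem pairs_one : ((1 : AddMonoid.End U), (1 : AddMonoid.End U)) ∈ pairs a b :=
  AddSubgroup.subset_closure ⟨[], by simp [pr_nil]⟩

theorem pairs_left : (a, a) ∈ pairs a b :=
  AddSubgroup.subset_closure ⟨[(true, 1)], by simp [pr, el]⟩

theorem pairs_right : (b, b) ∈ pairs a b :=
  AddSubgroup.subset_closure ⟨[(false, 1)], by simp [pr, el]⟩

include hΦ

theorem pairs_add_mem (ha : a ∈ Φ) (hb : b ∈ Φ) {x : AddMonoid.End U × AddMonoid.End U}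
    (hx : x ∈ pairs a b) : x.1 + x.2 ∈ Φ := by
  induction hx using AddSubgroup.closure_induction with
  | mem x hx =>
    obtain ⟨l, rfl⟩ := hx
    exact pr_add_mem hΦ ha hb _ l le_rfl
  | zero => simpa using zero_mem Φ
  | add x y _ _ hx hy => simpa [add_add_add_comm] using add_mem hx hy
  | neg x _ hx => simpa [add_comm] using neg_mem hx

theorem pairs_mul_mem (ha : a ∈ Φ) (hb : b ∈ Φ) {x : AddMonoid.End U × AddMonoid.End U}
    (hx : x ∈ pairs a b) : x.1 * x.2 ∈ Φ := by
  induction hx using AddSubgroup.closure_induction with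
  | mem x hx =>
    obtain ⟨l, rfl⟩ := hx
    exact pr_mul_mem hΦ ha hb l
  | zero => simpa using zero_mem Φ
  | add x y hx' hy' hx hy =>
    have h1 := pairs_add_mem hΦ ha hb (pairs_mul hx' (pairs_swap hy'))
    have h2 : (x + y).1 * (x + y).2 = x.1 * x.2 + y.1 * y.2 + (x.1 * y.2 + y.1 * x.2) := by
      simp only [Prod.fst_add, Prod.snd_add]; noncomm_ring
    rw [h2]
    exact add_mem (add_mem hx hy) h1
  | neg x _ hx => simpa using hx

/-- Squares generate: an element commuting with all squares from a subsystem commutes with the element. -/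
theorem commute_of_sq [Finite U] {c e : AddMonoid.End U} (hc : c ∈ Φ)
    (h : ∀ n : ℕ, Commute e ((c + (n : AddMonoid.End U)) * (c + (n : AddMonoid.End U)))) : Commute e c := by
  have h0 : Commute e (c * c) := by simpa using h 0
  have h2 : Commute e (2 * c) := by
    have h1 : Commute e ((c + 1) * (c + 1)) := by simpa using h 1
    have h3 : (2 : AddMonoid.End U) * c = (c + 1) * (c + 1) - c * c - 1 := by noncomm_ring
    rw [h3]
    exact (h1.sub_right h0).sub_right (Commute.one_right e)
  by_cases hz : c = 0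
  · rw [hz]; exact Commute.zero_right e
  by_cases h20 : (2 : AddMonoid.End U) = 0
  · haveI : Finite (AddMonoid.End U) := Finite.of_injective (fun f : AddMonoid.End U => (f : U → U))
      DFunLike.coe_injective
    obtain ⟨u, hu⟩ := hΦ.unit hc hz
    obtain ⟨m, hm | hm⟩ := Nat.even_or_odd' (orderOf u)
    · -- the element `c ^ m` is an involution
      exfalso
      have hpos : 0 < orderOf u := orderOf_pos u
      have hcm : c ^ m * c ^ m = 1 := by
        rw [← pow_add, ← hu, ← Units.val_pow_eq_pow_val, ← two_mul, ← hm, pow_orderOf_eq_one, Units.val_one]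
      have hd : (c ^ m - 1) * (c ^ m - 1) = 0 := by
        have : (c ^ m - 1) * (c ^ m - 1) = c ^ m * c ^ m - 2 * c ^ m + 1 := by noncomm_ring
        rw [this, hcm, h20, zero_mul, sub_zero, ← h20, one_add_one_eq_two]
      have hdz : c ^ m - 1 = 0 := by
        by_contra hne
        have hun := hΦ.unit (sub_mem (hΦ.pow hc m) hΦ.one) hne
        exact hne (hun.mul_left_eq_zero.1 hd)
      have : u ^ m = 1 := Units.ext (by rw [Units.val_pow_eq_pow_val, hu, Units.val_one]; exact sub_eq_zero.1 hdz)
      have := orderOf_dvd_of_pow_eq_one this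
      have := Nat.le_of_dvd (by omega) this
      omega
    · have hcc : c = (c * c) ^ (m + 1) := by
        rw [← pow_two, ← pow_mul, show 2 * (m + 1) = orderOf u + 1 by omega, pow_succ, ← hu,
          ← Units.val_pow_eq_pow_val, pow_orderOf_eq_one, Units.val_one, one_mul]
      rw [hcc]
      exact h0.pow_right _
  · have hu := hΦ.unit (by simpa [one_add_one_eq_two] using add_mem hΦ.one hΦ.one) h20
    obtain ⟨v, hv⟩ := hu
    have h4 : Commute e (↑v⁻¹ * (2 * c)) := by
      refine (Commute.units_inv_right ?_).mul_right h2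
      rw [hv]
      exact Commute.ofNat_right e 2
    rwa [← mul_assoc, ← hv, Units.inv_mul, one_mul] at h4

/-- The irreducible case. -/
theorem comm_irred [Finite U] (ha : a ∈ Φ) (hb : b ∈ Φ)
    (hirr : ∀ W : AddSubgroup U, (∀ w ∈ W, a w ∈ W) → (∀ w ∈ W, b w ∈ W) → W = ⊥ ∨ W = ⊤) :
    a * b = b * a := by
  rcases subsingleton_or_nontrivial U with hU | hU
  · exact DFunLike.ext _ _ fun u => Subsingleton.elim _ _
  haveI : Finite (AddMonoid.End U) := Finite.of_injective (fun f : AddMonoid.End U => (f : U → U))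
    DFunLike.coe_injective
  haveI : Finite (AddMonoid.End U)ᵐᵒᵖ := Finite.of_equiv _ MulOpposite.opEquiv
  haveI : Nontrivial (AddMonoid.End U) := by
    obtain ⟨w, hw⟩ := exists_ne (0 : U)
    exact ⟨⟨0, 1, fun h => hw (DFunLike.congr_fun h w).symm⟩⟩
  let E : Subring (AddMonoid.End U) :=
    { carrier := {u | ∃ v, (u, v) ∈ pairs a b}
      one_mem' := ⟨1, pairs_one⟩
      zero_mem' := ⟨0, zero_mem _⟩
      add_mem' := fun ⟨v, hv⟩ ⟨w, hw⟩ => ⟨v + w, add_mem hv hw⟩
      neg_mem' := fun ⟨v, hv⟩ => ⟨-v, neg_mem hv⟩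
      mul_mem' := fun ⟨v, hv⟩ ⟨w, hw⟩ => ⟨w * v, pairs_mul hv hw⟩ }
  have haE : a ∈ E := ⟨a, pairs_left⟩
  have hbE : b ∈ E := ⟨b, pairs_right⟩
  -- idempotents are trivial
  have hidem : ∀ e v, (e, v) ∈ pairs a b → e * e = e → v * v = v → e = 0 ∨ e = 1 := by
    intro e v hev he hv
    by_contra hne
    push Not at hne
    have hsing : ∀ y, e * y ∈ Φ → e * y = 0 := fun y hy => by
      by_contra h0
      obtain ⟨u, hu⟩ := hΦ.unit hy h0
      have h1 : (1 - e) * (e * y) = 0 := by
        rw [← mul_assoc, sub_mul, one_mul, he, sub_self, zero_mul]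
      rw [← hu, u.mul_left_eq_zero] at h1
      exact hne.2 (sub_eq_zero.1 h1).symm
    have hev0 : e * v = 0 := hsing v (pairs_mul_mem hΦ ha hb hev)
    have hve0 : v * e = 0 := by
      by_contra h0
      obtain ⟨u, hu⟩ := hΦ.unit (pairs_mul_mem hΦ ha hb (pairs_swap hev)) h0
      have h1 : (v * e) * (1 - e) = 0 := by rw [mul_assoc, mul_sub, mul_one, he, sub_self, mul_zero]
      rw [← hu, u.mul_right_eq_zero] at h1
      exact hne.2 (sub_eq_zero.1 h1).symm
    have hsum : e + v = 1 := by
      have hs := pairs_add_mem hΦ ha hb hev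
      have hsq : (e + v) * (e + v) = e + v := by rw [mul_add, add_mul, add_mul, he, hev0, hve0, hv]; abel
      have hs0 : e + v ≠ 0 := fun h0 => hne.1 (by
        have h1 : e * (e + v) = 0 := by rw [h0, mul_zero]
        rwa [mul_add, he, hev0, add_zero] at h1)
      exact (hΦ.unit hs hs0).mul_left_cancel (hsq.trans (mul_one _).symm)
    have hv1 : v = 1 - e := eq_sub_of_add_eq' hsum
    have hkey : ∀ c ∈ Φ, (c, c) ∈ pairs a b → Commute e (c * c) := by
      intro c _ hcc
      have h1 : e * (c * c * (1 - e)) = 0 := hsing _ (by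
        have h := pairs_mul_mem hΦ ha hb (pairs_mul hev hcc)
        simpa [hv1, mul_assoc] using h)
      have h2 : (1 - e) * (c * c) * e = 0 := by
        by_contra h0
        have hmem : (1 - e) * (c * c) * e ∈ Φ := by
          have h := pairs_mul_mem hΦ ha hb (pairs_mul (pairs_swap hev) hcc)
          simpa [hv1, mul_assoc] using h
        obtain ⟨u, hu⟩ := hΦ.unit hmem h0
        have h3 : ((1 - e) * (c * c) * e) * (1 - e) = 0 := by
          rw [mul_assoc, mul_sub, mul_one, he, sub_self, mul_zero]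
        rw [← hu, u.mul_right_eq_zero] at h3
        exact hne.2 (sub_eq_zero.1 h3).symm
      have h4 : e * (c * c) = e * (c * c) * e := by
        rw [← sub_eq_zero, ← h1]
        noncomm_ring
      have h5 : c * c * e = e * (c * c) * e := by
        rw [sub_mul, one_mul, sub_mul, sub_eq_zero] at h2
        exact h2
      exact h4.trans h5.symm
    have hcomm : ∀ c ∈ Φ, (c, c) ∈ pairs a b → Commute e c := fun c hc hcc => by
      refine commute_of_sq hΦ hc fun n => hkey _ ?_ ?_
      · exact add_mem hc (by simpa using nsmul_mem hΦ.one n)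
      · have hn : ((n : AddMonoid.End U), (n : AddMonoid.End U)) ∈ pairs a b := by
          simpa using nsmul_mem (pairs_one (a := a) (b := b)) n
        exact add_mem hcc hn
    have hea := hcomm a ha pairs_left
    have heb := hcomm b hb pairs_right
    rcases hirr (AddMonoidHom.range (e : U →+ U)) (by
        rintro _ ⟨w, rfl⟩
        exact ⟨a w, DFunLike.congr_fun hea.eq w⟩) (by
        rintro _ ⟨w, rfl⟩
        exact ⟨b w, DFunLike.congr_fun heb.eq w⟩) with h | h
    · exact hne.1 (DFunLike.ext _ _ fun w => (AddSubgroup.eq_bot_iff_forall _).1 h _ ⟨w, rfl⟩)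
    · refine hne.2 (DFunLike.ext _ _ fun w => ?_)
      obtain ⟨z, rfl⟩ := (h ▸ AddSubgroup.mem_top w : w ∈ AddMonoidHom.range (e : U →+ U))
      exact DFunLike.congr_fun he z
  -- every element is nilpotent or a unit
  have hnil : ∀ u ∈ E, ¬ IsUnit u → IsNilpotent u := by
    rintro u ⟨v, huv⟩ hu
    obtain ⟨n, hn, hne⟩ := exists_idem_pow (M := AddMonoid.End U × (AddMonoid.End U)ᵐᵒᵖ) (u, MulOpposite.op v)
    simp only [Prod.pow_mk, Prod.mk_mul_mk, Prod.mk.injEq, ← MulOpposite.op_pow, ← MulOpposite.op_mul,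
      MulOpposite.op_inj] at hne
    have hmem : ∀ k : ℕ, (u ^ k, v ^ k) ∈ pairs a b := fun k => by
      induction k with
      | zero => simpa using pairs_one
      | succ k ih => simpa [← pow_succ, ← pow_succ'] using pairs_mul ih huv
    rcases hidem _ _ (hmem n) hne.1 hne.2 with h | h
    · exact ⟨n, h⟩
    · exact absurd (IsUnit.of_pow_eq_one h hn.ne') hu
  -- there are no non-units except `0`
  have hzero : ∀ u ∈ E, ¬ IsUnit u → u = 0 := by
    intro u huE huu
    let r : U → U → Prop := fun w' w => w' ≠ 0 ∧ ∃ y ∈ E, ¬ IsUnit y ∧ y w = w'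
    haveI : IsTrans U r := ⟨fun x y z ⟨hx, f, hf, hfu, hfx⟩ ⟨_, g, hg, _, hgx⟩ =>
      ⟨hx, f * g, E.mul_mem hf hg, fun h => hfu (isUnit_of_mul_isUnit_left h),
        show f (g z) = x by rw [hgx, hfx]⟩⟩
    haveI : Std.Irrefl r := ⟨fun x ⟨hx, f, hf, hfu, hfx⟩ => by
      obtain ⟨k, hk⟩ := hnil f hf hfu
      have : ∀ j : ℕ, (f ^ j) x = x := fun j => by
        induction j with
        | zero => rfl
        | succ j ih =>
          show (f ^ (j + 1)) x = x
          rw [pow_succ]
          show (f ^ j) (f x) = x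
          rw [hfx, ih]
      exact hx (by rw [← this k, hk]; rfl)⟩
    obtain ⟨w0, hw00⟩ := exists_ne (0 : U)
    obtain ⟨w, hw, hmin⟩ := (Finite.wellFounded_of_trans_of_irrefl r).has_min {w : U | w ≠ 0} ⟨w0, hw00⟩
    let W : AddSubgroup U :=
      { carrier := {w | ∀ y ∈ E, ¬ IsUnit y → y w = 0}
        zero_mem' := fun y _ _ => map_zero y
        add_mem' := fun hx hy y hyE hyu => by rw [map_add, hx y hyE hyu, hy y hyE hyu, add_zero]
        neg_mem' := fun hx y hyE hyu => by rw [map_neg, hx y hyE hyu, neg_zero] }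
    have hinv : ∀ c ∈ E, ∀ x ∈ W, c x ∈ W := fun c hc x hx y hy hyu =>
      hx (y * c) (E.mul_mem hy hc) fun h => hyu (isUnit_of_mul_isUnit_left h)
    rcases hirr W (hinv a haE) (hinv b hbE) with h | h
    · refine absurd ((AddSubgroup.eq_bot_iff_forall _).1 h w fun y hy hyu => ?_) hw
      by_contra h0
      exact hmin (y w) h0 ⟨h0, y, hy, hyu, rfl⟩
    · exact DFunLike.ext _ _ fun x => (h ▸ AddSubgroup.mem_top x : x ∈ W) u huE huu
  haveI : Nontrivial E := ⟨⟨0, 1, fun h => zero_ne_one (congrArg Subtype.val h)⟩⟩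
  haveI : NoZeroDivisors E := ⟨fun {x y} h => by
    by_cases hx : IsUnit (x : AddMonoid.End U)
    · right
      exact Subtype.ext (hx.mul_right_eq_zero.1 (congrArg Subtype.val h))
    · exact Or.inl (Subtype.ext (hzero x x.2 hx))⟩
  haveI : IsDomain E := NoZeroDivisors.to_isDomain E
  exact congrArg Subtype.val ((Finite.isDomain_to_isField E).mul_comm ⟨a, haE⟩ ⟨b, hbE⟩)

omit hΦ in
/-- The restriction of an endomorphism to an invariant subgroup. -/
def res (W : AddSubgroup U) (f : AddMonoid.End U) (hf : ∀ w ∈ W, f w ∈ W) : AddMonoid.End W :=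
  AddMonoidHom.mk' (fun w => ⟨f w, hf w w.2⟩) fun x y => Subtype.ext (map_add f _ _)

/-- In a Jordan division system of exponent `p` the orders are prime to `p`. -/
theorem not_dvd_order [Finite U] {p : ℕ} (hp : p.Prime) (hexp : ∀ u : U, p • u = 0) (ha : a ∈ Φ) (hane : a ≠ 0)
    (u : (AddMonoid.End U)ˣ) (hu : (u : AddMonoid.End U) = a) : ¬ p ∣ orderOf u := by
  rintro ⟨m, hm⟩
  haveI : Finite (AddMonoid.End U) := Finite.of_injective (fun f : AddMonoid.End U => (f : U → U))
    DFunLike.coe_injective
  haveI : Nontrivial (AddMonoid.End U) := ⟨⟨a, 0, hane⟩⟩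
  haveI := Fact.mk hp
  haveI : CharP (AddMonoid.End U) p := (CharP.charP_iff_prime_eq_zero hp).2 (by
    rw [← nsmul_one]
    exact DFunLike.ext _ _ fun u => hexp u)
  have hm0 : 0 < m := Nat.pos_of_ne_zero fun h => by
    have := orderOf_pos u
    rw [hm, h, mul_zero] at this
    omega
  have hd : a ^ m - 1 = 0 := by
    by_contra hne
    obtain ⟨v, hv⟩ := hΦ.unit (sub_mem (hΦ.pow ha m) hΦ.one) hne
    have h := sub_pow_char_of_commute p (Commute.one_right (a ^ m))
    rw [one_pow, ← pow_mul, mul_comm m p, ← hm] at h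
    have h1 : a ^ orderOf u = 1 := by rw [← hu, ← Units.val_pow_eq_pow_val, pow_orderOf_eq_one, Units.val_one]
    rw [h1, sub_self, ← hv, ← Units.val_pow_eq_pow_val] at h
    exact (v ^ p).ne_zero h
  have h1 : u ^ m = 1 := Units.ext (by rw [Units.val_pow_eq_pow_val, hu, Units.val_one]; exact sub_eq_zero.1 hd)
  have h2 := Nat.le_of_dvd hm0 (orderOf_dvd_of_pow_eq_one h1)
  have h3 : 1 * m < p * m := Nat.mul_lt_mul_of_pos_right hp.one_lt hm0
  omega

/-- Two members of a finite Jordan division system commute. -/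
theorem comm [Finite U] {p : ℕ} (ha : a ∈ Φ) (hb : b ∈ Φ) (hp : p.Prime)
    (hexp : ∀ u : U, p • u = 0) : a * b = b * a := by
  rcases subsingleton_or_nontrivial U with hU | hU
  · exact DFunLike.ext _ _ fun u => Subsingleton.elim _ _
  haveI : Finite (AddMonoid.End U) := Finite.of_injective (fun f : AddMonoid.End U => (f : U → U))
    DFunLike.coe_injective
  haveI : Nonempty (AddSubgroup U) := ⟨⊤⟩
  obtain ⟨W, ⟨hWne, hWa, hWb⟩, hmin⟩ := (Finite.wellFounded_of_trans_of_irrefl
    (fun x y : AddSubgroup U => x < y)).has_min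
    {W : AddSubgroup U | W ≠ ⊥ ∧ (∀ w ∈ W, a w ∈ W) ∧ ∀ w ∈ W, b w ∈ W}
    ⟨⊤, by simp, fun _ _ => trivial, fun _ _ => trivial⟩
  obtain ⟨w₀, hw₀W, hw₀⟩ := (AddSubgroup.bot_or_exists_ne_zero W).resolve_left hWne
  let ΦW : AddSubgroup (AddMonoid.End W) :=
    { carrier := {g | ∃ f ∈ Φ, ∀ w : W, ((g w : W) : U) = f (w : U)}
      zero_mem' := ⟨0, zero_mem _, fun _ => rfl⟩
      add_mem' := fun {g h} ⟨f, hf, hg⟩ ⟨f', hf', hh⟩ => ⟨f + f', add_mem hf hf', fun w => by
        show ((g w : W) : U) + ((h w : W) : U) = f w + f' w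
        rw [hg, hh]⟩
      neg_mem' := fun {g} ⟨f, hf, hg⟩ => ⟨-f, neg_mem hf, fun w => by
        show -((g w : W) : U) = -f w
        rw [hg]⟩ }
  have hJ : JD ΦW :=
    { one := ⟨1, hΦ.one, fun _ => rfl⟩
      tri := fun {g h} ⟨f, hf, hg⟩ ⟨f', hf', hh⟩ => ⟨f * f' * f, hΦ.tri hf hf', fun w => by
        show ((g (h (g w)) : W) : U) = f (f' (f w))
        rw [hg, hh, hg]⟩
      unit := fun {g} ⟨f, hf, hg⟩ hne => by
        haveI : Finite (AddMonoid.End W) := Finite.of_injective (fun f : AddMonoid.End W => (f : W → W))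
          DFunLike.coe_injective
        have hf0 : f ≠ 0 := fun h => hne (DFunLike.ext _ _ fun w => Subtype.ext (by rw [hg, h]; rfl))
        have hinj : Function.Injective (g : W → W) := fun x y hxy => by
          by_contra hne'
          refine hf0 (hΦ.eq_zero_of_kills hf (u := (x : U) - y) (sub_ne_zero.2 fun h => hne' (Subtype.ext h)) ?_)
          rw [map_sub, ← hg, ← hg, hxy, sub_self]
        let e : W ≃+ W := AddEquiv.ofBijective g (Finite.injective_iff_bijective.1 hinj)
        exact ⟨⟨g, e.symm.toAddMonoidHom, DFunLike.ext _ _ fun w => e.apply_symm_apply w,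
          DFunLike.ext _ _ fun w => e.symm_apply_apply w⟩, rfl⟩ }
  have key : res W a hWa * res W b hWb = res W b hWb * res W a hWa := by
    refine comm_irred hJ ⟨a, ha, fun _ => rfl⟩ ⟨b, hb, fun _ => rfl⟩ fun X hXa hXb => ?_
    by_contra hX
    push Not at hX
    have hmap : X.map W.subtype ≤ W := by rintro _ ⟨x, -, rfl⟩; exact x.2
    refine hmin (X.map W.subtype) ⟨?_, ?_, ?_⟩ (lt_of_le_of_ne hmap ?_)
    · exact fun h => hX.1 ((AddSubgroup.map_eq_bot_iff_of_injective _ W.subtype_injective).1 h)
    · rintro _ ⟨x, hx, rfl⟩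
      exact ⟨_, hXa x hx, rfl⟩
    · rintro _ ⟨x, hx, rfl⟩
      exact ⟨_, hXb x hx, rfl⟩
    · intro h
      refine hX.2 (eq_top_iff.2 fun x _ => ?_)
      have hxW : (x : U) ∈ AddSubgroup.map W.subtype X := by rw [h]; exact x.2
      obtain ⟨y, hy, hyx⟩ := hxW
      rwa [← Subtype.ext hyx]
  have hkey : a (b w₀) = b (a w₀) := by
    have := congrArg Subtype.val (DFunLike.congr_fun key ⟨w₀, hw₀W⟩)
    exact this
  have hkey' : a (a (b w₀)) = a (b (a w₀)) := congrArg a hkey
  have hkey'' : b (a (a w₀)) = a (b (a w₀)) := by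
    have := DFunLike.congr_fun key ⟨a w₀, hWa _ hw₀W⟩
    exact (congrArg Subtype.val this).symm
  by_cases h20 : p = 2
  · have htwo : ∀ x : AddMonoid.End U, x + x = 0 := fun x => DFunLike.ext _ _ fun u => by
      show x u + x u = 0
      rw [← two_nsmul, ← h20, hexp]
    have h := hΦ.eq_zero_of_kills (hΦ.jord ha hb) hw₀ (by
      show a (b w₀) + b (a w₀) = 0
      rw [hkey]; exact DFunLike.congr_fun (htwo (b * a)) w₀)
    exact (add_eq_zero_iff_eq_neg.1 h).trans (add_eq_zero_iff_eq_neg.1 (htwo (b * a))).symm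
  · have h0 : a * a * b + b * a * a - (a * b * a + a * b * a) = 0 := by
      refine hΦ.eq_zero_of_kills (sub_mem ?_ (add_mem (hΦ.tri ha hb) (hΦ.tri ha hb))) hw₀ ?_
      · simpa [mul_assoc] using hΦ.jord (hΦ.sq ha) hb
      · show a (a (b w₀)) + b (a (a w₀)) - (a (b (a w₀)) + a (b (a w₀))) = 0
        rw [hkey', hkey'', sub_self]
    -- `a ^ p` commutes with `b`, and `a` is a power of `a ^ p`
    have had : ∀ n : ℕ, a ^ n * b = b * a ^ n + n • ((a * b - b * a) * a ^ (n - 1)) := by
      have hc : a * (a * b - b * a) = (a * b - b * a) * a := by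
        rw [← sub_eq_zero, ← h0]; noncomm_ring
      intro n
      induction n with
      | zero => simp
      | succ n ih =>
        have hcn : a * ((a * b - b * a) * a ^ (n - 1)) = (a * b - b * a) * (a * a ^ (n - 1)) := by
          rw [← mul_assoc, hc, mul_assoc]
        rw [pow_succ', mul_assoc, ih, mul_add, mul_smul_comm, hcn]
        rcases n with - | n
        · simp only [pow_zero, zero_smul, add_zero, mul_one, zero_add, pow_one, one_smul, Nat.sub_self]
          abel
        · rw [Nat.add_sub_cancel, Nat.add_sub_cancel, ← pow_succ', succ_nsmul _ (n + 1), sub_mul,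
            mul_assoc b a, mul_assoc a b]
          abel
    have hpc : Commute (a ^ p) b := by
      rw [Commute, SemiconjBy, had p]
      have : ∀ x : AddMonoid.End U, p • x = 0 := fun x => DFunLike.ext _ _ fun u => hexp (x u)
      rw [this, add_zero]
    rcases eq_or_ne a 0 with rfl | hane
    · rw [zero_mul, mul_zero]
    obtain ⟨u, hu⟩ := hΦ.unit ha hane
    obtain ⟨k, hk⟩ := exists_pow_eq_self_of_coprime (x := u) (n := p)
      ((hp.coprime_iff_not_dvd).2 (not_dvd_order hΦ hp hexp ha hane u hu))
    have : a = (a ^ p) ^ k := by rw [← hu, ← Units.val_pow_eq_pow_val, ← Units.val_pow_eq_pow_val, hk]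
    rw [this]
    exact (hpc.pow_left k).eq

/-- A finite Jordan division system is closed under products. -/
theorem mul_mem [Finite U] {p : ℕ} (ha : a ∈ Φ) (hb : b ∈ Φ) (hp : p.Prime)
    (hexp : ∀ u : U, p • u = 0) : a * b ∈ Φ := by
  by_cases h20 : p = 2
  · rcases eq_or_ne a 0 with rfl | hane
    · simpa using zero_mem Φ
    -- `a` is a square
    haveI : Finite (AddMonoid.End U) := Finite.of_injective (fun f : AddMonoid.End U => (f : U → U))
      DFunLike.coe_injective
    obtain ⟨u, hu⟩ := hΦ.unit ha hane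
    obtain ⟨m, hm | hm⟩ := Nat.even_or_odd' (orderOf u)
    · exact absurd (h20 ▸ Dvd.intro m hm.symm) (not_dvd_order hΦ hp hexp ha hane u hu)
    · have hsq : a = a ^ (m + 1) * a ^ (m + 1) := by
        rw [← pow_add, show m + 1 + (m + 1) = orderOf u + 1 by omega, pow_succ, ← hu,
          ← Units.val_pow_eq_pow_val, pow_orderOf_eq_one, Units.val_one, one_mul]
      rw [hsq, mul_assoc, comm hΦ (hΦ.pow ha _) hb hp hexp, ← mul_assoc]
      exact hΦ.tri (hΦ.pow ha _) hb
  · have h := nsmul_mem (hΦ.jord ha hb) ((p + 1) / 2)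
    rw [← comm hΦ ha hb hp hexp, ← two_nsmul, ← mul_nsmul'] at h
    rwa [show (p + 1) / 2 * 2 = p + 1 by
        obtain ⟨m, rfl⟩ := hp.odd_of_ne_two h20; omega, succ_nsmul,
      show p • (a * b) = 0 from DFunLike.ext _ _ fun u => hexp ((a * b) u), zero_add] at h

end Cfsg.Agent.FFJordan
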