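/-
A group generated by `p`-elements, in which elements of order `p` have exactly one fixed point, with a quadratic
offender on `V` is `SL₂(q)` and `V` modulo the fixed vectors is the natural module.
-/
import Cfsg.Agent.Lib.FFEmbedded.Count
import Cfsg.Agent.Lib.FFEmbedded.Jordan
import Cfsg.Agent.Lib.LocalEven.SL2Quad
import Mathlib.Algebra.Ring.TransferInstance
import Mathlib.LinearAlgebra.Matrix.SpecialLinearGroup

set_option autoImplicit false
set_option linter.unusedSectionVars false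
set_option linter.style.haveILetI false
set_option maxHeartbeats 1000000

namespace Cfsg.Agent.FFEmb

variable {H : Type*} [Group H] [Finite H] {V : Type*} [AddCommGroup V] [Finite V] [DistribMulAction H V]
  {Ω : Type*} [MulAction H Ω] {p : ℕ} [Fact p.Prime]

/-- A carrier in `Type` for a transported field. -/
def FinCarrier (n : ℕ) : Type := Fin n

instance (n : ℕ) : Fintype (FinCarrier n) := inferInstanceAs (Fintype (Fin n))

open Matrix in
theorem natural (hS : Sys p H V Ω) {A : Subgroup H} (hK : TwoPts p Ω (⊤ : Subgroup H)) (hA : Off p V A)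
    (hgen : Subgroup.closure {g : H | IsPEl p g} = ⊤) :
    ∃ (K : Type) (_ : Field K) (_ : Fintype K) (ρ : H ≃* Matrix.SpecialLinearGroup (Fin 2) K)
      (ψ : V →+ (Fin 2 → K)), Fintype.card K = Nat.card A ∧ Function.Surjective ψ ∧
      (∀ v, ψ v = 0 ↔ ∀ g : H, g • v = v) ∧
      (∀ (g : H) (v : V), ψ (g • v) = ((ρ g : Matrix.SpecialLinearGroup (Fin 2) K) : Matrix (Fin 2) (Fin 2) K).mulVec (ψ v)) ∧
      (∀ v, v ∈ fx V A ↔ ψ v 1 = 0) := by
  classical
  have hc := main hS ⊤ hK A le_top hA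
  set F := fp V p (⊤ : Subgroup H) with hF
  have hFfix : ∀ v, v ∈ F ↔ ∀ g : H, g • v = v := by
    intro v
    refine ⟨fun hv g => ?_, fun h g _ _ => h g⟩
    have : Subgroup.closure {g : H | IsPEl p g} ≤ MulAction.stabilizer H v :=
      (Subgroup.closure_le _).2 fun g hg => hv g trivial hg
    rw [hgen] at this
    exact this (Subgroup.mem_top g)
  obtain ⟨α, hα⟩ := hS.exists_at hA.pgroup hA.ne_bot
  obtain ⟨k0, hk0⟩ : ∃ k : H, k • α ≠ α := by
    by_contra h
    push Not at h
    obtain ⟨s, -, t, -, x, y, hxy, hs1, ht1, hsp, htp, hsx, hty⟩ := hK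
    exact hxy ((hS.fix_unique hs1 hsp hsx (h s)).trans (hS.fix_unique ht1 htp (h t) hty))
  set A' := conjS k0 A with hA'def
  have hA' : Off p V A' := hA.conj k0
  have hβ : At A' (k0 • α) := at_conjS hα
  have hq' : Nat.card A' = Nat.card A := card_conjS k0 A
  have hPd := pair hS hK (fun K' hK' h2 => main hS K' h2) hA hA' le_top le_top hq'.symm hα hβ hk0.symm
  set q := Nat.card A with hqdef
  have hq2 : 2 ≤ q := (Subgroup.one_lt_card_iff_ne_bot A).2 hA.ne_bot
  set C := fx V A with hCdef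
  set D := fx V A' with hDdef
  have hCD : ∀ v, v ∈ C → v ∈ D → v ∈ F := by
    have he : F = C ⊓ D := by
      refine AddSubgroup.eq_of_le_of_card_ge (le_inf (fp_le_fx hA.pgroup le_top) (fp_le_fx hA'.pgroup le_top)) ?_
      have h := hc.card_eq
      rw [hPd.card_V] at h
      exact (Nat.eq_of_mul_eq_mul_left (pow_pos (by omega) 2) h).le
    exact fun v h1 h2 => he ▸ ⟨h1, h2⟩
  -- every `p`-subgroup lies in `A` or in a conjugate of `A'` by an element of `A`
  have hpts := hc.points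
  have hptsA : ∀ {a : H}, a ∈ A → ∃ g ∈ (⊤ : Subgroup H), g ≠ 1 ∧ IsPEl p g ∧ g • (a • k0 • α) = a • k0 • α := by
    intro a _
    have hne : conjS a A' ≠ ⊥ := (hA'.conj a).ne_bot
    obtain ⟨g, hg, hg1⟩ := (Subgroup.bot_or_exists_ne_one _).resolve_left hne
    exact ⟨g, trivial, hg1, isPEl_of_mem (hA'.conj a).pgroup hg, at_conjS hβ g hg⟩
  have hmove : ∀ {a : H}, a ∈ A → a • k0 • α ≠ α := fun ha h => hk0 (by
    have := hα _ (inv_mem ha)
    nth_rewrite 1 [← h] at this
    rwa [inv_smul_smul] at this)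
  have hreach : ∀ x : Ω, (∃ g : H, g ≠ 1 ∧ IsPEl p g ∧ g • x = x) → x ≠ α → ∃ a ∈ A, a • k0 • α = x := by
    intro x hx hxα
    let P := {x : Ω // ∃ g ∈ (⊤ : Subgroup H), g ≠ 1 ∧ IsPEl p g ∧ g • x = x}
    haveI : Finite P := Nat.finite_of_card_ne_zero (by rw [show Nat.card P = q + 1 from hpts]; omega)
    obtain ⟨g, hg, hg1⟩ := (Subgroup.bot_or_exists_ne_one A).resolve_left hA.ne_bot
    let f : Option A → P := fun o => match o with
      | none => ⟨α, g, trivial, hg1, isPEl_of_mem hA.pgroup hg, hα g hg⟩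
      | some a => ⟨(a : H) • k0 • α, hptsA a.2⟩
    have hinj : Function.Injective f := by
      rintro (- | a) (- | b) h
      · rfl
      · exact absurd (congrArg Subtype.val h).symm (hmove b.2)
      · exact absurd (congrArg Subtype.val h) (hmove a.2)
      · refine congrArg some (Subtype.ext ?_)
        have h' : (a : H) • k0 • α = (b : H) • k0 • α := congrArg Subtype.val h
        by_contra hne
        refine hmove (a := 1) (one_mem A) ?_
        rw [one_smul]
        refine hS.fix_unique (g := (b : H)⁻¹ * a) (fun h1 => hne (inv_mul_eq_one.1 h1).symm)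
          (isPEl_of_mem hA.pgroup (mul_mem (inv_mem b.2) a.2)) ?_ (hα _ (mul_mem (inv_mem b.2) a.2))
        rw [mul_smul, h', inv_smul_smul]
    have hbij := Nat.bijective_iff_injective_and_card f |>.2 ⟨hinj, by
      rw [Finite.card_option, show Nat.card P = q + 1 from hpts]⟩
    obtain ⟨o, ho⟩ := hbij.2 ⟨x, hx.choose, trivial, hx.choose_spec⟩
    rcases o with - | a
    · exact absurd (congrArg Subtype.val ho).symm hxα
    · exact ⟨a, a.2, congrArg Subtype.val ho⟩
  have hnode : ∀ R : Subgroup H, IsPGroup p R → R ≠ ⊥ → R ≤ A ∨ ∃ a ∈ A, R ≤ conjS a A' := by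
    intro R hR hne
    obtain ⟨x, hx⟩ := hS.exists_at hR hne
    by_cases hxα : x = α
    · exact Or.inl (hc.le_node R le_top hR α hα (hxα ▸ hx))
    · obtain ⟨g, hg, hg1⟩ := (Subgroup.bot_or_exists_ne_one R).resolve_left hne
      obtain ⟨a, ha, he⟩ := hreach x ⟨g, hg1, isPEl_of_mem hR hg, hx g hg⟩ hxα
      exact Or.inr ⟨a, ha, (main hS ⊤ hK _ le_top (hA'.conj a)).le_node R le_top hR (a • k0 • α) (at_conjS hβ)
        (he ▸ hx)⟩
  have hgenA : A ⊔ A' = ⊤ := by
    rw [eq_top_iff, ← hgen, Subgroup.closure_le]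
    intro g hg
    rcases eq_or_ne g 1 with rfl | hg1
    · exact one_mem _
    rcases hnode _ hg.zpowers (fun h => hg1 (Subgroup.zpowers_eq_bot.1 h)) with h | ⟨a, ha, h⟩
    · exact Subgroup.mem_sup_left (h (Subgroup.mem_zpowers g))
    · obtain ⟨u, hu, rfl⟩ := h (Subgroup.mem_zpowers g)
      exact mul_mem (mul_mem (Subgroup.mem_sup_left ha) (Subgroup.mem_sup_right hu))
        (inv_mem (Subgroup.mem_sup_left ha))
  -- coordinates
  obtain ⟨a1, ha1, ha1ne⟩ := (Subgroup.bot_or_exists_ne_one A).resolve_left hA.ne_bot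
  let U := V ⧸ C
  let y : V →+ U := QuotientAddGroup.mk' C
  have hy0 : ∀ v, y v = 0 ↔ v ∈ C := fun v => QuotientAddGroup.eq_zero_iff v
  have hindex : C.index = q ∧ D.index = q := by
    have h1 := AddSubgroup.card_mul_index C
    have h2 := AddSubgroup.card_mul_index D
    rw [hPd.card_V] at h1 h2
    rw [hPd.card_left] at h1
    rw [hPd.card_right] at h2
    have hz : 0 < q * Nat.card ↥(C ⊓ D) := Nat.mul_pos (by omega) Nat.card_pos
    exact ⟨Nat.eq_of_mul_eq_mul_left hz (h1.trans (by ring)),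
      Nat.eq_of_mul_eq_mul_left hz (h2.trans (by ring))⟩
  -- displacement by an element of `A`, read modulo `D`
  let δ : A → (U →+ V ⧸ D) := fun a => QuotientAddGroup.lift C
    ((QuotientAddGroup.mk' D).comp (AddMonoidHom.mk' (fun v : V => (a : H) • v - v)
      fun x y => by rw [smul_add]; abel)) fun c hc => by
      simp [AddMonoidHom.mem_ker, hc a.1 a.2]
  have hδ : ∀ (a : A) (v : V), δ a (y v) = QuotientAddGroup.mk' D ((a : H) • v - v) := fun a v => rfl
  have hδinj : ∀ a : A, (a : H) ≠ 1 → Function.Injective (δ a) := by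
    intro a ha
    rw [injective_iff_map_eq_zero]
    intro u
    induction u using QuotientAddGroup.induction_on with
    | H v =>
      intro hu
      refine (QuotientAddGroup.eq_zero_iff v).2 (hPd.fix_eq a a.2 ha v (hPd.comm_inter a a.2 v ?_))
      exact (QuotientAddGroup.eq_zero_iff _).1 hu
  have hcardU : Nat.card U = q := hindex.1
  have hθb : Function.Bijective (δ ⟨a1, ha1⟩) := (Nat.bijective_iff_injective_and_card _).2
    ⟨hδinj _ ha1ne, by rw [show Nat.card U = q from hcardU]; exact hindex.2.symm⟩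
  let θ : U ≃+ V ⧸ D := AddEquiv.ofBijective _ hθb
  let x : V →+ U := θ.symm.toAddMonoidHom.comp (QuotientAddGroup.mk' D)
  have hx0 : ∀ v, x v = 0 ↔ v ∈ D := fun v => by
    show θ.symm (QuotientAddGroup.mk' D v) = 0 ↔ _
    rw [AddEquiv.map_eq_zero_iff]
    exact QuotientAddGroup.eq_zero_iff v
  let Φm : A → AddMonoid.End U := fun a => θ.symm.toAddMonoidHom.comp (δ a)
  have hxA : ∀ (a : A) (v : V), x ((a : H) • v) = x v + Φm a (y v) := by
    intro a v
    show θ.symm _ = θ.symm _ + θ.symm (δ a (y v))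
    rw [hδ, ← map_add, ← map_add, add_sub_cancel]
  have hyA : ∀ (a : A) (v : V), y ((a : H) • v) = y v := fun a v => by
    rw [← sub_eq_zero, ← map_sub]
    exact (hy0 _).2 (hA.quad a a.2 v)
  have hΦone : Φm ⟨a1, ha1⟩ = 1 := DFunLike.ext _ _ fun u => θ.symm_apply_apply u
  have hΦadd : ∀ a b : A, Φm (a * b) = Φm a + Φm b := by
    intro a b
    refine DFunLike.ext _ _ fun u => ?_
    induction u using QuotientAddGroup.induction_on with
    | H v =>
      have h1 := hxA (a * b) v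
      rw [Subgroup.coe_mul, mul_smul, hxA, hyA, hxA, add_assoc, add_right_inj] at h1
      show Φm (a * b) (y v) = Φm a (y v) + Φm b (y v)
      rw [← h1]; exact add_comm _ _
  have hΦinj : Function.Injective Φm := by
    intro a b h
    by_contra hne
    have h0 : Φm (a⁻¹ * b) = 0 := by
      have h1 := hΦadd a (a⁻¹ * b)
      rw [mul_inv_cancel_left, ← h] at h1
      exact left_eq_add.1 h1
    have hne' : ((a⁻¹ * b : A) : H) ≠ 1 := fun h1 => hne (inv_mul_eq_one.1 (Subtype.ext h1))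
    haveI : Nontrivial U := Finite.one_lt_card_iff_nontrivial.1 (by omega)
    obtain ⟨u, hu⟩ := exists_ne (0 : U)
    have h2 : θ.symm (δ (a⁻¹ * b) u) = 0 := DFunLike.congr_fun h0 u
    rw [AddEquiv.map_eq_zero_iff, (injective_iff_map_eq_zero' _).1 (hδinj _ hne')] at h2
    exact hu h2
  have hΦzero : Φm 1 = 0 := by
    have h := hΦadd 1 1
    rw [mul_one] at h
    exact left_eq_add.1 h
  let Φ : AddSubgroup (AddMonoid.End U) :=
    { carrier := Set.range Φm
      zero_mem' := ⟨1, hΦzero⟩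
      add_mem' := by rintro _ _ ⟨a, rfl⟩ ⟨b, rfl⟩; exact ⟨a * b, hΦadd a b⟩
      neg_mem' := by
        rintro _ ⟨a, rfl⟩
        refine ⟨a⁻¹, eq_neg_of_add_eq_zero_left ?_⟩
        rw [← hΦadd, inv_mul_cancel, hΦzero] }
  -- displacement by an element of `A'`
  let ε : A' → (V ⧸ D →+ U) := fun b => QuotientAddGroup.lift D
    (y.comp (AddMonoidHom.mk' (fun v : V => (b : H) • v - v)
      fun x y => by rw [smul_add]; abel)) fun c hc => by
      simp [AddMonoidHom.mem_ker, hc b.1 b.2]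
  let Ψm : A' → AddMonoid.End U := fun b => (ε b).comp θ.toAddMonoidHom
  have hyB : ∀ (b : A') (v : V), y ((b : H) • v) = y v + Ψm b (x v) := by
    intro b v
    show _ = y v + ε b (θ (θ.symm (QuotientAddGroup.mk' D v)))
    rw [θ.apply_symm_apply]
    show _ = y v + y ((b : H) • v - v)
    rw [← map_add, add_sub_cancel]
  have hxB : ∀ (b : A') (v : V), x ((b : H) • v) = x v := fun b v => by
    rw [← sub_eq_zero, ← map_sub]
    exact (hx0 _).2 (hA'.quad b b.2 v)
  have hsurj : ∀ s : U, ∃ c ∈ C, x c = s := by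
    intro s
    obtain ⟨v, hv⟩ := QuotientAddGroup.mk'_surjective D (θ s)
    obtain ⟨c, hc', d, hd, rfl⟩ := hPd.exists_add v
    refine ⟨c, hc', ?_⟩
    have h1 : x (c + d) = s := by
      show θ.symm _ = s
      rw [hv, θ.symm_apply_apply]
    rwa [map_add, (hx0 d).2 hd, add_zero] at h1
  have hΨadd : ∀ a b : A', Ψm (a * b) = Ψm a + Ψm b := by
    intro a b
    refine DFunLike.ext _ _ fun u => ?_
    obtain ⟨c, -, rfl⟩ := hsurj u
    have h1 := hyB (a * b) c
    rw [Subgroup.coe_mul, mul_smul, hyB, hxB, hyB, add_assoc, add_right_inj] at h1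
    show Ψm (a * b) (x c) = Ψm a (x c) + Ψm b (x c)
    rw [← h1]; exact add_comm _ _
  -- the nonzero displacements of `A'` are the inverses of those of `A`
  have hinv : ∀ b : A', (b : H) ≠ 1 → ∃ a : A, (a : H) ≠ 1 ∧ Φm a * Ψm b = 1 := by
    intro b hb
    have hbA : IsPGroup p (conjS (b : H) A) := (hA.conj (b : H)).pgroup
    rcases hnode _ hbA (hA.conj (b : H)).ne_bot with h | ⟨a, ha, h⟩
    · exfalso
      obtain ⟨g, hg, hg1⟩ := (Subgroup.bot_or_exists_ne_one _).resolve_left (hA.conj (b : H)).ne_bot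
      have h1 := hS.fix_unique hg1 (isPEl_of_mem hbA hg) (at_conjS hα g hg) (hα g (h hg))
      exact hk0 (hS.fix_unique hb (isPEl_of_mem hA'.pgroup b.2) (hβ b b.2) h1)
    · have he : conjS (b : H) A = conjS a A' :=
        Subgroup.eq_of_le_of_card_ge h (by rw [card_conjS a A', card_conjS (b : H) A, hq'])
      have key : ∀ c ∈ C, a⁻¹ • (b : H) • c ∈ D := by
        intro c hc'
        have hm : (b : H) • c ∈ fx V (conjS (b : H) A) := mem_fx_conjS.2 (by rw [inv_smul_smul]; exact hc')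
        rw [he, mem_fx_conjS] at hm
        exact hm
      have hΦinv : Φm (⟨a, ha⟩ : A)⁻¹ = -Φm ⟨a, ha⟩ := by
        refine eq_neg_of_add_eq_zero_left ?_
        rw [← hΦadd, inv_mul_cancel, hΦzero]
      have hmul : Φm ⟨a, ha⟩ * Ψm b = 1 := by
        refine DFunLike.ext _ _ fun u => ?_
        obtain ⟨c, hc', rfl⟩ := hsurj u
        have h1 := (hx0 _).2 (key c hc')
        rw [show (a⁻¹ : H) = (((⟨a, ha⟩ : A)⁻¹ : A) : H) from rfl, hxA, hxB, hyB, (hy0 c).2 hc', zero_add,
          hΦinv] at h1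
        show Φm ⟨a, ha⟩ (Ψm b (x c)) = x c
        change x c + -(Φm ⟨a, ha⟩ (Ψm b (x c))) = 0 at h1
        exact (add_neg_eq_zero.1 h1).symm
      refine ⟨⟨a, ha⟩, fun h1 => ?_, hmul⟩
      have h0 : (⟨a, ha⟩ : A) = 1 := Subtype.ext h1
      rw [h0, hΦzero, zero_mul] at hmul
      haveI : Nontrivial U := Finite.one_lt_card_iff_nontrivial.1 (by omega)
      obtain ⟨u, hu⟩ := exists_ne (0 : U)
      exact hu (DFunLike.congr_fun hmul u).symm
  choose g hg1 hg using hinv
  haveI : Finite (AddMonoid.End U) := Finite.of_injective (fun f : AddMonoid.End U => (f : U → U))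
    DFunLike.coe_injective
  haveI : Nontrivial U := Finite.one_lt_card_iff_nontrivial.1 (by omega)
  haveI : Nontrivial (AddMonoid.End U) := by
    obtain ⟨u, hu⟩ := exists_ne (0 : U)
    exact ⟨⟨0, 1, fun h => hu (DFunLike.congr_fun h u).symm⟩⟩
  have hΦunit : ∀ a : A, (a : H) ≠ 1 → ∃ (w : (AddMonoid.End U)ˣ), (w : AddMonoid.End U) = Φm a := by
    intro a ha
    have hb : Function.Bijective (Φm a) := Finite.injective_iff_bijective.1 (θ.symm.injective.comp (hδinj a ha))
    let e : U ≃+ U := AddEquiv.ofBijective (Φm a) hb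
    exact ⟨⟨Φm a, e.symm.toAddMonoidHom, DFunLike.ext _ _ e.apply_symm_apply,
      DFunLike.ext _ _ e.symm_apply_apply⟩, rfl⟩
  have hgbij : ∀ a : A, (a : H) ≠ 1 → ∃ (b : A'), Φm a * Ψm b = 1 ∧ Ψm b * Φm a = 1 := by
    intro a ha
    let f : {b : A' // (b : H) ≠ 1} → {a : A // (a : H) ≠ 1} := fun b => ⟨g b b.2, hg1 b b.2⟩
    have hf : Function.Injective f := by
      rintro ⟨b, hb⟩ ⟨b', hb'⟩ h
      have h' : g b hb = g b' hb' := congrArg Subtype.val h
      obtain ⟨w, hw⟩ := hΦunit _ (hg1 b hb)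
      have e1 : (w : AddMonoid.End U) * Ψm b = w * Ψm b' := by
        conv_rhs => rw [hw, h', hg]
        rw [hw, hg]
      rw [Units.mul_right_inj] at e1
      -- the displacement determines the element
      refine Subtype.ext (Subtype.ext ?_)
      show (b : H) = b'
      rw [← inv_mul_eq_one]
      refine hS.faith _ fun v => ?_
      obtain ⟨c, hc', d, hd, rfl⟩ := hPd.exists_add v
      have hb0 : ((b : H)⁻¹ * b') • c = c := by
        have hmem : (b⁻¹ * b' : A').1 • c - c ∈ C := by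
          rw [← hy0, map_sub, hyB, (hy0 c).2 hc', zero_add, sub_zero, hΨadd, ← e1, ← hΨadd, inv_mul_cancel]
          have h1 := hΨadd 1 1
          rw [mul_one] at h1
          rw [left_eq_add.1 h1]
          rfl
        have h2 : ((b : H)⁻¹ * b') • c - c ∈ F := hCD _ hmem (hA'.quad _ (b⁻¹ * b' : A').2 c)
        by_cases h3 : ((b : H)⁻¹ * b') = 1
        · rw [h3, one_smul]
        have hx' := pair hS hK (fun K' hK' h2 => main hS K' h2) hA' hA le_top le_top hq' hβ hα hk0
        exact hx'.comm_inter _ (b⁻¹ * b' : A').2 c (fp_le_fx hA.pgroup le_top h2)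
      rw [smul_add, hb0, hd ((b : H)⁻¹ * b') (b⁻¹ * b' : A').2]
    have hbij := (Nat.bijective_iff_injective_and_card f).2 ⟨hf, by
      have e : ∀ (S : Subgroup H), Nat.card {s : S // (s : H) ≠ 1} = Nat.card S - 1 := fun S => by
        haveI := Fintype.ofFinite S
        rw [Nat.card_eq_fintype_card, Nat.card_eq_fintype_card, Fintype.card_subtype_compl,
          show Fintype.card {s : S // (s : H) = 1} = 1 from Fintype.card_eq_one_iff.2
            ⟨⟨1, rfl⟩, fun s => Subtype.ext (Subtype.ext s.2)⟩]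
      rw [e, e, hq']⟩
    obtain ⟨b, hb⟩ := hbij.2 ⟨a, ha⟩
    have h' : g b.1 b.2 = a := congrArg Subtype.val hb
    have h1 : Φm a * Ψm b.1 = 1 := h' ▸ hg b.1 b.2
    obtain ⟨w, hw⟩ := hΦunit a ha
    refine ⟨b.1, h1, ?_⟩
    rw [← hw] at h1 ⊢
    rw [Units.mul_eq_one_iff_inv_eq] at h1
    rw [← h1, Units.inv_mul]
  let Ψ : AddSubgroup (AddMonoid.End U) := AddSubgroup.closure (Set.range Ψm)
  have hΨone : Ψm 1 = 0 := by
    have h1 := hΨadd 1 1
    rw [mul_one] at h1
    exact left_eq_add.1 h1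
  have hΨmem : ∀ u ∈ Ψ, ∃ b, Ψm b = u := by
    intro u hu
    induction hu using AddSubgroup.closure_induction with
    | mem u hu => exact hu
    | zero => exact ⟨1, hΨone⟩
    | add u v _ _ hu hv =>
      obtain ⟨b, rfl⟩ := hu; obtain ⟨b', rfl⟩ := hv
      exact ⟨b * b', hΨadd b b'⟩
    | neg u _ hu =>
      obtain ⟨b, rfl⟩ := hu
      refine ⟨b⁻¹, eq_neg_of_add_eq_zero_left ?_⟩
      rw [← hΨadd, inv_mul_cancel, hΨone]
  have hΨinv : ∀ b : A', Ψm b ≠ 0 → ∃ a : A, (a : H) ≠ 1 ∧ Φm a * Ψm b = 1 ∧ Ψm b * Φm a = 1 := by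
    intro b hb
    have hb1 : (b : H) ≠ 1 := fun h => hb (by rw [show b = 1 from Subtype.ext h, hΨone])
    refine ⟨g b hb1, hg1 b hb1, hg b hb1, ?_⟩
    obtain ⟨w, hw⟩ := hΦunit _ (hg1 b hb1)
    have h1 := hg b hb1
    rw [← hw, Units.mul_eq_one_iff_inv_eq] at h1
    rw [← h1, ← hw, Units.inv_mul]
  have hua : ∀ (a : A) (b : A'), Φm a * Ψm b * Φm a ∈ Φ := by
    intro a b
    by_cases hb0 : Ψm b = 0
    · rw [hb0, mul_zero, zero_mul]; exact zero_mem Φ
    by_cases ha0 : (a : H) = 1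
    · rw [show a = 1 from Subtype.ext ha0, hΦzero, zero_mul, zero_mul]; exact zero_mem Φ
    obtain ⟨c, -, hc1, hc2⟩ := hΨinv b hb0
    by_cases hca : c = a
    · rw [← hca, hc1, one_mul]; exact ⟨c, rfl⟩
    -- `t = ψ⁻¹ - φ`
    have ht : Φm (c * a⁻¹) = Φm c - Φm a := by
      have h := hΦadd (c * a⁻¹) a
      rw [inv_mul_cancel_right] at h
      exact eq_sub_of_add_eq h.symm
    have hta : ((c * a⁻¹ : A) : H) ≠ 1 := fun h => hca (mul_inv_eq_one.1 (Subtype.ext h))
    obtain ⟨bt, hbt1, hbt2⟩ := hgbij _ hta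
    obtain ⟨ba, hba1, hba2⟩ := hgbij a ha0
    have hprod : (Φm (c * a⁻¹) * Ψm b * Φm a) = Φm a - Φm a * Ψm b * Φm a := by
      rw [ht, sub_mul, sub_mul, hc1, one_mul]
    have hsum : Ψm (ba * bt) * (Φm (c * a⁻¹) * Ψm b * Φm a) = 1 := by
      rw [hΨadd, add_mul]
      have h2 : Ψm bt * (Φm (c * a⁻¹) * Ψm b * Φm a) = Ψm b * Φm a := by
        rw [← mul_assoc, ← mul_assoc, hbt2, one_mul]
      rw [h2, hprod, mul_sub, hba2, ← mul_assoc, ← mul_assoc, hba2, one_mul, sub_add_cancel]
    have hne : Ψm (ba * bt) ≠ 0 := fun h => by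
      rw [h, zero_mul] at hsum
      exact zero_ne_one hsum
    obtain ⟨s, -, hs1, -⟩ := hΨinv _ hne
    have hs : Φm s = Φm (c * a⁻¹) * Ψm b * Φm a := by
      calc Φm s = Φm s * (Ψm (ba * bt) * (Φm (c * a⁻¹) * Ψm b * Φm a)) := by rw [hsum, mul_one]
        _ = _ := by rw [← mul_assoc, hs1, one_mul]
    rw [hprod] at hs
    have : Φm a * Ψm b * Φm a = Φm a - Φm s := by rw [hs, sub_sub_cancel]
    rw [this]
    exact Φ.sub_mem ⟨a, rfl⟩ ⟨s, rfl⟩
  have hΨΦ : ∀ b : A', Ψm b ∈ Φ := fun b => by simpa [hΦone] using hua ⟨a1, ha1⟩ b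
  have hJ : FFJordan.JD Φ :=
    { one := ⟨⟨a1, ha1⟩, hΦone⟩
      tri := by
        rintro _ _ ⟨a, rfl⟩ ⟨c, rfl⟩
        by_cases hc0 : (c : H) = 1
        · rw [show c = 1 from Subtype.ext hc0, hΦzero, mul_zero, zero_mul]; exact zero_mem Φ
        -- `c` is a displacement of `A'`
        obtain ⟨b, hb, hb'⟩ := hgbij c hc0
        obtain ⟨c', hc'⟩ := hΨΦ b
        have hc'1 : (c' : H) ≠ 1 := fun h => by
          rw [← hc', show c' = 1 from Subtype.ext h, hΦzero, mul_zero] at hb
          exact zero_ne_one hb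
        obtain ⟨b2, hb2, hb2'⟩ := hgbij c' hc'1
        have : Φm c = Ψm b2 := by
          rw [hc'] at hb2
          calc Φm c = Φm c * (Ψm b * Ψm b2) := by rw [hb2, mul_one]
            _ = _ := by rw [← mul_assoc, hb, one_mul]
        rw [this]
        exact hua a b2
      unit := by
        rintro _ ⟨a, rfl⟩ hne
        obtain ⟨w, hw⟩ := hΦunit a fun h => hne (by rw [show a = 1 from Subtype.ext h, hΦzero])
        exact ⟨w, hw⟩ }
  have hexp : ∀ u : U, p • u = 0 := by
    intro u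
    induction u using QuotientAddGroup.induction_on with
    | H v => show p • y v = 0; rw [← map_nsmul, hS.exp, map_zero]
  let R : Subring (AddMonoid.End U) :=
    { carrier := Φ
      one_mem' := hJ.one
      mul_mem' := fun ha hb => FFJordan.mul_mem hJ ha hb Fact.out hexp
      zero_mem' := zero_mem Φ
      add_mem' := fun ha hb => add_mem ha hb
      neg_mem' := fun ha => neg_mem ha }
  haveI : NoZeroDivisors R := ⟨fun {r s} h => by
    by_cases hr : (r : AddMonoid.End U) = 0
    · exact Or.inl (Subtype.ext hr)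
    · exact Or.inr (Subtype.ext ((hJ.unit r.2 hr).mul_right_eq_zero.1 (congrArg Subtype.val h)))⟩
  haveI : Nontrivial R := ⟨⟨0, 1, fun h => zero_ne_one (congrArg Subtype.val h)⟩⟩
  haveI : IsDomain R := NoZeroDivisors.to_isDomain R
  haveI : Fintype R := Fintype.ofFinite R
  letI : Field R := (Finite.isDomain_to_isField R).toField
  have hcardR : Fintype.card R = q := by
    rw [← Nat.card_eq_fintype_card, hqdef]
    exact (Nat.card_congr (Equiv.ofInjective Φm hΦinj)).symm
  obtain ⟨u0, hu0⟩ := exists_ne (0 : U)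
  let ev : R →+ U := AddMonoidHom.mk' (fun r => (r : AddMonoid.End U) u0) fun r s => rfl
  have hev : Function.Bijective ev := (Nat.bijective_iff_injective_and_card _).2
    ⟨(injective_iff_map_eq_zero _).2 fun r hr => Subtype.ext (hJ.eq_zero_of_kills r.2 hu0 hr), by
      rw [Nat.card_eq_fintype_card, hcardR, hcardU]⟩
  let κ : U ≃+ R := (AddEquiv.ofBijective ev hev).symm
  have hκ : ∀ (r : R) (u : U), κ ((r : AddMonoid.End U) u) = r * κ u := fun r u => by
    obtain ⟨s, rfl⟩ := hev.2 u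
    show κ ((r : AddMonoid.End U) (ev s)) = r * κ (ev s)
    rw [show (r : AddMonoid.End U) (ev s) = ev (r * s) from rfl]
    show κ ((AddEquiv.ofBijective ev hev) (r * s)) = r * κ ((AddEquiv.ofBijective ev hev) s)
    simp only [κ, AddEquiv.symm_apply_apply]
  let ψ : V →+ (Fin 2 → R) := AddMonoidHom.mk' (fun v => ![κ (x v), κ (y v)]) fun v w => by
    funext i; fin_cases i <;> simp
  have hψsurj : Function.Surjective ψ := by
    intro f
    obtain ⟨c, hc', hxc⟩ := hsurj (κ.symm (f 0))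
    obtain ⟨v, hv⟩ := QuotientAddGroup.mk'_surjective C (κ.symm (f 1))
    obtain ⟨c', hc'', d, hd, rfl⟩ := hPd.exists_add v
    refine ⟨c + d, funext fun i => ?_⟩
    fin_cases i
    · show κ (x (c + d)) = f 0
      rw [map_add x, (hx0 d).2 hd, add_zero, hxc, κ.apply_symm_apply]
    · show κ (y (c + d)) = f 1
      have hv' : y (c' + d) = κ.symm (f 1) := hv
      rw [map_add, (hy0 c').2 hc'', zero_add] at hv'
      rw [map_add y, (hy0 c).2 hc', zero_add, hv', κ.apply_symm_apply]
  let M2 := Matrix (Fin 2) (Fin 2) R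
  have hrelA : ∀ a : A, ∀ v, ψ ((a : H) • v) =
      ((LENat.upp (⟨Φm a, a, rfl⟩ : R) : Matrix.SpecialLinearGroup (Fin 2) R) : M2) *ᵥ ψ v := by
    intro a v
    rw [LENat.upp_mulVec]
    funext i
    fin_cases i
    · show κ (x ((a : H) • v)) = κ (x v) + (⟨Φm a, a, rfl⟩ : R) * κ (y v)
      rw [hxA, map_add, ← hκ]
    · show κ (y ((a : H) • v)) = κ (y v)
      rw [hyA]
  have hrelB : ∀ b : A', ∀ v, ψ ((b : H) • v) =
      ((LENat.low (⟨Ψm b, hΨΦ b⟩ : R) : Matrix.SpecialLinearGroup (Fin 2) R) : M2) *ᵥ ψ v := by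
    intro b v
    rw [LENat.low_mulVec]
    funext i
    fin_cases i
    · show κ (x ((b : H) • v)) = κ (x v)
      rw [hxB]
    · show κ (y ((b : H) • v)) = (⟨Ψm b, hΨΦ b⟩ : R) * κ (x v) + κ (y v)
      rw [hyB, map_add, ← hκ, add_comm]
  have hex : ∀ g : H, ∃ M : Matrix.SpecialLinearGroup (Fin 2) R, ∀ v, ψ (g • v) = (M : M2) *ᵥ ψ v := by
    let S : Subgroup H :=
      { carrier := {g | ∃ M : Matrix.SpecialLinearGroup (Fin 2) R, ∀ v, ψ (g • v) = (M : M2) *ᵥ ψ v}
        one_mem' := ⟨1, fun v => by rw [one_smul, Matrix.SpecialLinearGroup.coe_one, Matrix.one_mulVec]⟩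
        mul_mem' := fun ⟨M, hM⟩ ⟨N, hN⟩ => ⟨M * N, fun v => by rw [mul_smul, hM, hN, LENat.mul_mulVec]⟩
        inv_mem' := fun {g} ⟨M, hM⟩ => ⟨M⁻¹, fun v => by
          have h := hM (g⁻¹ • v)
          rw [smul_inv_smul] at h
          rw [h, ← LENat.mul_mulVec, inv_mul_cancel, Matrix.SpecialLinearGroup.coe_one, Matrix.one_mulVec]⟩ }
    intro g
    have hle : A ⊔ A' ≤ S := sup_le (fun a ha => ⟨_, hrelA ⟨a, ha⟩⟩) fun b hb => ⟨_, hrelB ⟨b, hb⟩⟩
    rw [hgenA] at hle
    exact hle (Subgroup.mem_top g)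
  have huniq : ∀ M N : Matrix.SpecialLinearGroup (Fin 2) R, (∀ v, (M : M2) *ᵥ ψ v = (N : M2) *ᵥ ψ v) → M = N := by
    intro M N h
    refine Subtype.ext (Matrix.ext fun i j => ?_)
    obtain ⟨v, hv⟩ := hψsurj (Pi.single j 1)
    have := congrFun (h v) i
    rwa [hv, Matrix.mulVec_single_one, Matrix.mulVec_single_one] at this
  choose ρf hρf using hex
  let ρ : H →* Matrix.SpecialLinearGroup (Fin 2) R := MonoidHom.mk' ρf fun g h => huniq _ _ fun v => by
    rw [← hρf, mul_smul, hρf, hρf, LENat.mul_mulVec]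
  have hψ0 : ∀ v, ψ v = 0 ↔ ∀ g : H, g • v = v := by
    intro v
    rw [← hFfix]
    constructor
    · intro h
      have h0 : κ (x v) = 0 := congrFun h 0
      have h1 : κ (y v) = 0 := congrFun h 1
      rw [AddEquiv.map_eq_zero_iff] at h0 h1
      exact hCD v ((hy0 v).1 h1) ((hx0 v).1 h0)
    · intro h
      funext i
      fin_cases i
      · show κ (x v) = 0
        rw [(hx0 v).2 (fp_le_fx hA'.pgroup le_top h), map_zero]
      · show κ (y v) = 0
        rw [(hy0 v).2 (fp_le_fx hA.pgroup le_top h), map_zero]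
  have hρinj : Function.Injective ρ := by
    rw [injective_iff_map_eq_one]
    intro g hg
    refine chain_inter_eq_one hS hK (C := F) (fun k _ c hc' => (hFfix c).1 hc' k) trivial
      ⟨fun c hc' => (hFfix c).1 hc' g, fun v => (hFfix _).2 ((hψ0 _).1 ?_)⟩
    rw [map_sub, hρf, show ρf g = 1 from hg, Matrix.SpecialLinearGroup.coe_one, Matrix.one_mulVec, sub_self]
  have hρsurj : Function.Surjective ρ := by
    intro M
    have hu : ∀ r : R, LENat.upp r ∈ ρ.range := by
      rintro ⟨_, a, rfl⟩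
      exact ⟨a, huniq _ _ fun v => by rw [← hrelA]; exact (hρf a v).symm⟩
    have hl : ∀ r : R, LENat.low r ∈ ρ.range := by
      rintro ⟨r, a, rfl⟩
      by_cases ha : (a : H) = 1
      · refine ⟨1, huniq _ _ fun v => ?_⟩
        rw [map_one, LENat.low_mulVec, Matrix.SpecialLinearGroup.coe_one, Matrix.one_mulVec]
        funext i
        fin_cases i <;> simp [show a = 1 from Subtype.ext ha, hΦzero]
      obtain ⟨b, hb, -⟩ := hgbij a ha
      obtain ⟨c', hc'⟩ := hΨΦ b
      have hc'1 : (c' : H) ≠ 1 := fun h => by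
        rw [← hc', show c' = 1 from Subtype.ext h, hΦzero, mul_zero] at hb
        exact zero_ne_one hb
      obtain ⟨b2, hb2, -⟩ := hgbij c' hc'1
      have he : Φm a = Ψm b2 := by
        rw [hc'] at hb2
        calc Φm a = Φm a * (Ψm b * Ψm b2) := by rw [hb2, mul_one]
          _ = _ := by rw [← mul_assoc, hb, one_mul]
      refine ⟨b2, huniq _ _ fun v => ?_⟩
      have : (⟨Φm a, a, rfl⟩ : R) = ⟨Ψm b2, hΨΦ b2⟩ := Subtype.ext he
      rw [this, ← hrelB]
      exact (hρf b2 v).symm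
    exact SL2Quad.gen ρ.range.toSubmonoid hu hl M
  -- move the field to `Type`
  let e : FinCarrier (Fintype.card R) ≃ R := (Fintype.equivFin R).symm
  letI : Field (FinCarrier (Fintype.card R)) := e.field
  let σ : R ≃+* FinCarrier (Fintype.card R) := (Equiv.ringEquiv e).symm
  let ψ0 : V →+ (Fin 2 → FinCarrier (Fintype.card R)) :=
    AddMonoidHom.mk' (fun v => fun i => σ (ψ v i)) fun v w => funext fun i => by
      simp only [map_add, Pi.add_apply]
  let m : Matrix.SpecialLinearGroup (Fin 2) R →* Matrix.SpecialLinearGroup (Fin 2) (FinCarrier (Fintype.card R)) :=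
    Matrix.SpecialLinearGroup.map σ.toRingHom
  have hm : Function.Bijective m := by
    refine ⟨fun M N h => Subtype.ext (Matrix.ext fun i j => σ.injective (congrFun (congrFun (congrArg Subtype.val h) i) j)), fun M => ?_⟩
    refine ⟨Matrix.SpecialLinearGroup.map σ.symm.toRingHom M, Subtype.ext (Matrix.ext fun i j => ?_)⟩
    exact σ.apply_symm_apply _
  refine ⟨FinCarrier (Fintype.card R), inferInstance, inferInstance,
    (MulEquiv.ofBijective ρ ⟨hρinj, hρsurj⟩).trans (MulEquiv.ofBijective m hm), ψ0, ?_, ?_, ?_, ?_, ?_⟩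
  · exact (Fintype.card_fin _).trans hcardR
  · intro f
    obtain ⟨v, hv⟩ := hψsurj fun i => σ.symm (f i)
    exact ⟨v, funext fun i => by show σ (ψ v i) = f i; rw [hv, RingEquiv.apply_symm_apply]⟩
  · intro v
    rw [← hψ0]
    refine ⟨fun h => funext fun i => ?_, fun h => funext fun i => ?_⟩
    · exact σ.map_eq_zero_iff.1 (congrFun h i)
    · show σ (ψ v i) = 0
      rw [h]; exact map_zero σ
  · intro g v
    funext i
    show σ (ψ (g • v) i) = _
    rw [hρf]
    exact RingHom.map_mulVec σ.toRingHom _ _ i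
  · intro v
    show _ ↔ σ (κ (y v)) = 0
    rw [map_eq_zero_iff σ σ.injective, AddEquiv.map_eq_zero_iff, hy0]

end Cfsg.Agent.FFEmb
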