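/-
Strongly `p`-embedded subgroups and offenders inside a group: translation to `FFEmb.Sys` and `FFEmb.Off`.
-/
import Cfsg.Agent.Lib.FFEmbedded.Natural
import Cfsg.Agent.Lib.LocalEven.StrongEmb2
import Cfsg.Agent.Lib.PLocal.Replacement
import Cfsg.Prelude.Def_LocalEven
import Cfsg.Prelude.Def_Amalgam

set_option autoImplicit false
set_option linter.unusedSectionVars false
set_option linter.style.haveILetI false

namespace Cfsg.Agent.FFEmb

open scoped commutatorElement IsMulCommutative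

variable {G : Type*} [Group G] [Finite G] {p : ℕ} [Fact p.Prime]

/-- Conjugation action of `H` on a normalized abelian subgroup, written additively. -/
@[reducible] def conjAct {V H : Subgroup G} [IsMulCommutative V] (hHV : H ≤ Subgroup.normalizer (V : Set G)) :
    DistribMulAction H (Additive V) where
  smul h v := Additive.ofMul ⟨(h : G) * ((Additive.toMul v : V) : G) * (h : G)⁻¹,
    (Subgroup.mem_normalizer_iff.1 (hHV h.2) _).1 (Additive.toMul v).2⟩
  one_smul v := Additive.toMul.injective (Subtype.ext (by simp [HSMul.hSMul]))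
  mul_smul g h v := Additive.toMul.injective (Subtype.ext (by simp [HSMul.hSMul, mul_assoc]))
  smul_zero h := Additive.toMul.injective (Subtype.ext (by simp [HSMul.hSMul]))
  smul_add h v w := Additive.toMul.injective (Subtype.ext (by simp [HSMul.hSMul, mul_assoc]))

/-- The cosets of a strongly `p`-embedded subgroup: elements of order `p` fix exactly one. -/
theorem sys_quotient {H : Type*} [Group H] [Finite H] {X : Subgroup H} (hX : Cfsg.IsStronglyPEmbedded p X)
    {V : Type*} [AddCommGroup V] [DistribMulAction H V] (hfaith : ∀ g : H, (∀ v : V, g • v = v) → g = 1)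
    (hexp : ∀ v : V, p • v = 0) : Sys p H V (H ⧸ X) ∧ TwoPts p (H ⧸ X) (⊤ : Subgroup H) := by
  obtain ⟨hne, hdvd, hint⟩ := (LEStrongEmb.iff_inter X).1 hX
  constructor
  · refine ⟨hfaith, hexp, fun g hg => ?_, fun g hg x y hx hy => ?_⟩
    · obtain ⟨P, hP⟩ : ∃ P : Sylow p H, (P : Subgroup H) ≤ X := by
        obtain ⟨S⟩ : Nonempty (Sylow p X) := inferInstance
        obtain ⟨P, hP⟩ := LEStrongEmb.sylow_isSylow hX S
        exact ⟨P, hP.le.trans (Subgroup.map_subtype_le _)⟩
      have hgp : IsPGroup p (Subgroup.zpowers g) := IsPEl.zpowers ⟨1, by rw [pow_one, ← hg, pow_orderOf_eq_one]⟩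
      obtain ⟨Q, hQ⟩ := hgp.exists_le_sylow
      obtain ⟨k, hk⟩ := MulAction.exists_smul_eq H P Q
      have hgQ : g ∈ ((k • P : Sylow p H) : Subgroup H) := hk ▸ hQ (Subgroup.mem_zpowers g)
      obtain ⟨s, hs, rfl⟩ := hgQ
      refine ⟨(k : H ⧸ X), ?_⟩
      rw [MulAction.Quotient.smul_coe, QuotientGroup.eq]
      show (((MulAut.conj k) s) * k)⁻¹ * k ∈ X
      simpa [mul_assoc] using inv_mem (hP hs)
    · induction x using QuotientGroup.induction_on with
      | H a =>
        induction y using QuotientGroup.induction_on with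
        | H b =>
          rw [MulAction.Quotient.smul_coe, QuotientGroup.eq, smul_eq_mul] at hx hy
          rw [QuotientGroup.eq]
          by_contra hab
          have hs : a⁻¹ * g * a ∈ X := by simpa [mul_assoc] using inv_mem hx
          have ht : b⁻¹ * g * b ∈ X := by simpa [mul_assoc] using inv_mem hy
          refine hint (a⁻¹ * b) hab ?_
          have hmem : a⁻¹ * g * a ∈ X ⊓ X.map (MulAut.conj (a⁻¹ * b)).toMonoidHom :=
            ⟨hs, ⟨_, ht, by simp [mul_assoc]⟩⟩
          have ho : orderOf (a⁻¹ * g * a) = p := by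
            rw [show a⁻¹ * g * a = MulAut.conj a⁻¹ g by simp, MulEquiv.orderOf_eq, hg]
          have := orderOf_dvd_natCard (⟨_, hmem⟩ : ↥(X ⊓ X.map (MulAut.conj (a⁻¹ * b)).toMonoidHom))
          rwa [Subgroup.orderOf_mk, ho] at this
  · obtain ⟨s, hs⟩ := exists_prime_orderOf_dvd_card' (G := X) p hdvd
    obtain ⟨k, hk⟩ : ∃ k, k ∉ X := by
      by_contra h
      push Not at h
      exact hne (eq_top_iff.2 fun x _ => h x)
    have hso : orderOf (s : H) = p := by rw [Subgroup.orderOf_coe, hs]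
    have hsp : IsPEl p (s : H) := ⟨1, by rw [pow_one, ← hso, pow_orderOf_eq_one]⟩
    have hs1 : (s : H) ≠ 1 := fun h => (Fact.out : p.Prime).ne_one (by rw [← hso, h, orderOf_one])
    refine ⟨s, trivial, k * s * k⁻¹, trivial, ((1 : H) : H ⧸ X), (k : H ⧸ X), ?_, hs1, ?_, hsp, hsp.conj k, ?_, ?_⟩
    · rw [Ne, QuotientGroup.eq]
      simpa using hk
    · rwa [Ne, conj_eq_one_iff]
    · rw [MulAction.Quotient.smul_coe, QuotientGroup.eq]
      simp
    · rw [MulAction.Quotient.smul_coe, QuotientGroup.eq]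
      simp [mul_assoc]

/-- A failure-of-factorization module has a faithful quadratic offender. -/
theorem exists_quad_offender {V H : Subgroup G} (hV : Cfsg.IsElementaryAbelian p V)
    (hHV : H ≤ Subgroup.normalizer (V : Set G)) (hf : H ⊓ Subgroup.centralizer (V : Set G) = ⊥)
    (hFF : Cfsg.IsFFModuleFor p V H) : ∃ B : Subgroup G, B ≤ H ∧ IsPGroup p B ∧ B ≠ ⊥ ∧
      Nat.card V ≤ Nat.card B * Nat.card ↥(V ⊓ Subgroup.centralizer (B : Set G)) ∧
      ⁅V, B⁆ ≤ Subgroup.centralizer (B : Set G) := by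
  obtain ⟨-, A, hAH, -, hab, hpow, hnc, hcard⟩ := hFF
  haveI := hV.1
  have hVc : ∀ v ∈ V, ∀ w ∈ V, v * w = w * v := fun v hv w hw =>
    congrArg Subtype.val (mul_comm' (⟨v, hv⟩ : V) ⟨w, hw⟩)
  have hAC : A ⊓ Subgroup.centralizer (V : Set G) = ⊥ := le_bot_iff.1 ((inf_le_inf_right _ hAH).trans hf.le)
  rw [hAC, Subgroup.card_bot, mul_one] at hcard
  have hApow : ∀ a ∈ A, a ^ p = 1 := fun a ha => by
    have : a ^ p ∈ A ⊓ Subgroup.centralizer (V : Set G) := ⟨pow_mem ha p, hpow a ha⟩
    rwa [hAC, Subgroup.mem_bot] at this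
  have hAbot : A ≠ ⊥ := fun h => hnc (by rw [h]; exact bot_le)
  have hAp : IsPGroup p A := fun a => ⟨1, Subtype.ext (by rw [pow_one, SubmonoidClass.coe_pow]; exact hApow a a.2)⟩
  haveI : Nonempty {B : Subgroup G // B ≤ A} := ⟨⟨A, le_rfl⟩⟩
  obtain ⟨⟨B₀, hB₀A⟩, hmax⟩ := Finite.exists_max fun B : {B : Subgroup G // B ≤ A} =>
    Nat.card (B : Subgroup G) * Nat.card (Replacement.cv V (B : Subgroup G))
  -- prefer `A` itself if it is best
  obtain ⟨B, hBA, hBne, hBcard, hBbest⟩ : ∃ B, B ≤ A ∧ B ≠ ⊥ ∧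
      Nat.card V ≤ Nat.card B * Nat.card (Replacement.cv V B) ∧
      ∀ C : Subgroup G, C ≤ B → Nat.card C * Nat.card (Replacement.cv V C) ≤
        Nat.card B * Nat.card (Replacement.cv V B) := by
    by_cases hle : Nat.card B₀ * Nat.card (Replacement.cv V B₀) ≤ Nat.card A * Nat.card (Replacement.cv V A)
    · exact ⟨A, le_rfl, hAbot, hcard, fun C hC => (hmax ⟨C, hC⟩).trans hle⟩
    · refine ⟨B₀, hB₀A, fun h => hle ?_, hcard.trans (hmax ⟨A, le_rfl⟩), fun C hC => hmax ⟨C, hC.trans hB₀A⟩⟩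
      have h1 : Nat.card (Replacement.cv V B₀) ≤ Nat.card V :=
        Nat.le_of_dvd Nat.card_pos (Subgroup.card_dvd_of_le inf_le_left)
      rw [h, Subgroup.card_bot, one_mul]
      rw [h] at h1
      exact h1.trans hcard
  have hBV : B ≤ Subgroup.normalizer (V : Set G) := (hBA.trans hAH).trans hHV
  have habB : ⁅B, B⁆ ≤ Subgroup.centralizer (V : Set G) := (Subgroup.commutator_mono hBA hBA).trans hab
  obtain ⟨h1, h2⟩ := Replacement.replacement hVc hBV habB hBbest (S := (V : Set G)) subset_rfl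
  rw [Replacement.commSet_eq] at h1 h2
  set C := B ⊓ Subgroup.centralizer ((⁅V, B⁆ : Subgroup G) : Set G) with hC
  refine ⟨C, inf_le_left.trans (hBA.trans hAH), (hAp.to_le hBA).to_le inf_le_left, fun hbot => hBne ?_, ?_, ?_⟩
  · have h3 : V ≤ ⁅V, B⁆ ⊔ Replacement.cv V B := by
      rw [← h1, hbot]
      exact le_inf le_rfl fun v _ => Subgroup.mem_centralizer_iff.2 fun b hb => by
        rw [Subgroup.mem_bot.1 hb, one_mul, mul_one]
    have hVp : IsPGroup p V := fun v => ⟨1, Subtype.ext (by rw [pow_one, SubmonoidClass.coe_pow]; exact hV.2 v v.2)⟩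
    have h4 := Replacement.le_centralizer_of_le_sup hVp hVc hBV
      (fun a ha => hpow a (hBA ha)) h3
    rw [← le_bot_iff, ← hAC]
    exact le_inf hBA (Subgroup.le_centralizer_iff.1 h4)
  · rw [← h2] at hBcard
    exact hBcard
  · intro x hx
    have hx' : x ∈ ⁅V, B⁆ := (Subgroup.commutator_mono le_rfl inf_le_left) hx
    exact Subgroup.mem_centralizer_iff.2 fun c hc => ((Subgroup.mem_centralizer_iff.1 hc.2) x hx').symm

/-- `SL₂` on the natural module from a faithful quadratic offender in a group with a strongly `p`-embedded subgroup. -/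
theorem natural_module {V H : Subgroup G} (hV : Cfsg.IsElementaryAbelian p V)
    (hHV : H ≤ Subgroup.normalizer (V : Set G)) (hf : H ⊓ Subgroup.centralizer (V : Set G) = ⊥)
    (hgen : Cfsg.pElementClosure p H = H) {X : Subgroup H} (hX : Cfsg.IsStronglyPEmbedded p X)
    {B : Subgroup G} (hBH : B ≤ H) (hBp : IsPGroup p B) (hBne : B ≠ ⊥)
    (hBcard : Nat.card V ≤ Nat.card B * Nat.card ↥(V ⊓ Subgroup.centralizer (B : Set G)))
    (hBq : ⁅V, B⁆ ≤ Subgroup.centralizer (B : Set G)) :
    ∃ (F : Type) (_ : Field F) (_ : Fintype F) (ρ : H ≃* Matrix.SpecialLinearGroup (Fin 2) F)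
      (ψ : Additive V →+ (Fin 2 → F)), Fintype.card F = Nat.card B ∧ Function.Surjective ψ ∧
      (∀ v : V, ψ (Additive.ofMul v) = 0 ↔ (v : G) ∈ Subgroup.centralizer (H : Set G)) ∧
      (∀ (h : H) (v w : V), (w : G) = (h : G) * (v : G) * (h : G)⁻¹ → ψ (Additive.ofMul w) =
        ((ρ h : Matrix.SpecialLinearGroup (Fin 2) F) : Matrix (Fin 2) (Fin 2) F).mulVec (ψ (Additive.ofMul v))) ∧
      (∀ v : V, (v : G) ∈ Subgroup.centralizer (B : Set G) ↔ ψ (Additive.ofMul v) 1 = 0) := by
  haveI := hV.1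
  letI := conjAct (V := V) hHV
  have hsmul : ∀ (h : H) (v : Additive V),
      ((Additive.toMul (h • v) : V) : G) = (h : G) * ((Additive.toMul v : V) : G) * (h : G)⁻¹ := fun _ _ => rfl
  have hfix : ∀ (h : H) (v : Additive V),
      h • v = v ↔ (h : G) * ((Additive.toMul v : V) : G) = ((Additive.toMul v : V) : G) * (h : G) := by
    intro h v
    rw [← Additive.toMul.injective.eq_iff, Subtype.ext_iff, hsmul, mul_inv_eq_iff_eq_mul]
  obtain ⟨hS, h2⟩ := sys_quotient hX (V := Additive V)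
    (fun h hh => by
      have : (h : G) ∈ H ⊓ Subgroup.centralizer (V : Set G) :=
        ⟨h.2, fun v hv => ((hfix h (Additive.ofMul ⟨v, hv⟩)).1 (hh _)).symm⟩
      rw [hf, Subgroup.mem_bot] at this
      exact Subtype.ext this)
    fun v => Additive.toMul.injective (Subtype.ext (by
      rw [toMul_nsmul, SubmonoidClass.coe_pow, toMul_zero]; exact hV.2 _ (Additive.toMul v).2))
  set A : Subgroup H := B.subgroupOf H with hA
  have hfx : ∀ v : Additive V, v ∈ fx (Additive V) A ↔
      ((Additive.toMul v : V) : G) ∈ Subgroup.centralizer (B : Set G) := fun v =>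
    ⟨fun h b hb => (hfix ⟨b, hBH hb⟩ v).1 (h ⟨b, hBH hb⟩ hb), fun h b hb => (hfix b v).2 (h b hb)⟩
  have hAcard : Nat.card A = Nat.card B := Nat.card_congr (Subgroup.subgroupOfEquivOfLe hBH).toEquiv
  have hOff : Off p (Additive V) A := by
    refine ⟨hBp.of_equiv (Subgroup.subgroupOfEquivOfLe hBH).symm, fun h => hBne ?_, ?_, fun a ha v => (hfx _).2 ?_⟩
    · rw [hA, Subgroup.subgroupOf_eq_bot, disjoint_iff, inf_eq_left.2 hBH] at h
      exact h
    · rw [hAcard]
      refine le_of_eq_of_le (Nat.card_congr Additive.toMul) (hBcard.trans (Nat.mul_le_mul_left _ (le_of_eq ?_)))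
      exact Nat.card_congr
        { toFun := fun v => ⟨Additive.ofMul ⟨(v : G), v.2.1⟩, (hfx _).2 v.2.2⟩
          invFun := fun v => ⟨((Additive.toMul (v : Additive V) : V) : G), (Additive.toMul (v : Additive V)).2,
            (hfx _).1 v.2⟩
          left_inv := fun _ => rfl
          right_inv := fun _ => rfl }
    · rw [toMul_sub, Subgroup.coe_div, hsmul, div_eq_mul_inv]
      have hm : ⁅((Additive.toMul v : V) : G), ((a : G))⁆ ∈ ⁅V, B⁆ :=
        Subgroup.commutator_mem_commutator (Additive.toMul v).2 ha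
      have := hBq (Subgroup.inv_mem _ hm)
      rw [commutatorElement_inv, commutatorElement_def] at this
      exact this
  have hgen' : Subgroup.closure {g : H | IsPEl p g} = ⊤ := by
    rw [eq_top_iff]
    rintro ⟨g, hg⟩ -
    have hg' : g ∈ Cfsg.pElementClosure p H := hgen.symm ▸ hg
    have hle : Cfsg.pElementClosure p H ≤ (Subgroup.closure {g : H | IsPEl p g}).map H.subtype := by
      rw [Cfsg.pElementClosure, Subgroup.closure_le]
      rintro x ⟨hx, k, hk⟩
      exact ⟨⟨x, hx⟩, Subgroup.subset_closure ⟨k, Subtype.ext (by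
        rw [SubmonoidClass.coe_pow, ← hk, pow_orderOf_eq_one]; rfl)⟩, rfl⟩
    obtain ⟨y, hy, hye⟩ := hle hg'
    have : y = ⟨g, hg⟩ := Subtype.ext hye
    rwa [this] at hy
  obtain ⟨F, hF1, hF2, ρ, ψ, hcard, hsurj, h0, hact, hfx1⟩ := natural hS h2 hOff hgen'
  refine ⟨F, hF1, hF2, ρ, ψ, hcard.trans hAcard, hsurj, fun v => ?_, fun h v w hw => ?_, fun v => ?_⟩
  · rw [h0, Subgroup.mem_centralizer_iff]
    exact ⟨fun hh g hg => (hfix ⟨g, hg⟩ _).1 (hh ⟨g, hg⟩), fun hh g => (hfix g _).2 (hh g g.2)⟩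
  · rw [← hact]
    exact congrArg ψ (Additive.toMul.injective (Subtype.ext hw))
  · exact (hfx (Additive.ofMul v)).symm.trans (hfx1 _)

end Cfsg.Agent.FFEmb
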