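/-
A minimal quadratic offender `A` in a group that is generated by `A` and any conjugate of it lying over another
coset of a maximal subgroup `M`, with a Sylow-fixed vector that is not fixed by the group: conjugates over
different cosets are in opposite position, `A` is regular on the other cosets and normal in `M`.
-/
import Cfsg.Agent.Lib.FFEmbedded.NaturalCore

set_option autoImplicit false
set_option linter.unusedSectionVars false
set_option linter.style.haveILetI false

namespace Cfsg.Agent.PMinFF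

open Cfsg.Agent.FFEmb

variable {H : Type*} [Group H] [Finite H] {V : Type*} [AddCommGroup V] [Finite V] [DistribMulAction H V]
  {p : ℕ} [Fact p.Prime]

/-- The standing hypotheses. -/
structure Data (p : ℕ) (V : Type*) [AddCommGroup V] [DistribMulAction H V] (M A : Subgroup H) (T : Sylow p H)
    (z : V) : Prop where
  faith : ∀ g : H, (∀ v : V, g • v = v) → g = 1
  ppow : ∀ v : V, ∃ k : ℕ, p ^ k • v = 0
  leT : A ≤ T
  TM : (T : Subgroup H) ≤ M
  Mne : M ≠ ⊤
  Ane : A ≠ ⊥
  bound : Nat.card V ≤ Nat.card A * Nat.card (fx V A)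
  strict : ∀ B ≤ A, B ≠ ⊥ → B ≠ A → Nat.card B * Nat.card (fx V B) < Nat.card A * Nat.card (fx V A)
  quad : ∀ a ∈ A, ∀ v : V, a • v - v ∈ fx V A
  gen : ∀ x : H, x ∉ M → A ⊔ conjS x A = ⊤
  zT : ∀ t ∈ (T : Subgroup H), t • z = z
  znfix : ∃ g : H, g • z ≠ z
  frat : ∀ N : Subgroup H, N.Normal → N ≤ M → ((T : Subgroup H) ⊓ N).Normal

/-- The fixed vectors of the whole group. -/
abbrev Z (H V : Type*) [Group H] [AddCommGroup V] [DistribMulAction H V] : AddSubgroup V :=
  fx V (⊤ : Subgroup H)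

theorem Z_le (B : Subgroup H) : Z H V ≤ fx V B := fun _ hv b _ => hv b (Subgroup.mem_top b)

theorem smul_Z (g : H) {v : V} (hv : g • v ∈ Z H V) : v ∈ Z H V := by
  have h1 := hv g⁻¹ (Subgroup.mem_top _)
  rw [inv_smul_smul] at h1
  rw [h1]; exact hv

theorem smul_eq_Z (g : H) {v : V} (hv : v ∈ Z H V) : g • v = v := hv g (Subgroup.mem_top g)

theorem smul_mem_fx {g : H} {A : Subgroup H} {v : V} (hv : v ∈ fx V A) : g • v ∈ fx V (conjS g A) :=
  mem_fx_conjS.2 (by rwa [inv_smul_smul])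

theorem exists_smul_of_mem_fx {g : H} {A : Subgroup H} {v : V} (hv : v ∈ fx V (conjS g A)) :
    ∃ c ∈ fx V A, g • c = v := ⟨g⁻¹ • v, mem_fx_conjS.1 hv, smul_inv_smul g v⟩

namespace Data

variable {M A : Subgroup H} {T : Sylow p H} {z : V} (hd : Data p V M A T z)
include hd

theorem leM : A ≤ M := hd.leT.trans hd.TM

theorem z_mem : z ∈ fx V A := fun a ha => hd.zT a (hd.leT ha)

theorem z_not_mem : z ∉ Z H V := fun h => by
  obtain ⟨g, hg⟩ := hd.znfix
  exact hg (h g (Subgroup.mem_top g))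

theorem gen_pair {g h : H} (hgh : g⁻¹ * h ∉ M) : conjS g A ⊔ conjS h A = ⊤ := by
  rw [show conjS h A = conjS g (conjS (g⁻¹ * h) A) by rw [conjS_mul, mul_inv_cancel_left], conjS, conjS,
    ← Subgroup.map_sup, hd.gen _ hgh, Subgroup.map_top_of_surjective _ (MulAut.conj g).surjective]

theorem inf_fx {g h : H} (hgh : g⁻¹ * h ∉ M) {v : V} (hg : v ∈ fx V (conjS g A))
    (hh : v ∈ fx V (conjS h A)) : v ∈ Z H V := by
  intro k _
  have hle : conjS g A ⊔ conjS h A ≤ MulAction.stabilizer H v :=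
    sup_le (fun a ha => hg a ha) fun a ha => hh a ha
  rw [hd.gen_pair hgh] at hle
  exact hle (Subgroup.mem_top k)

theorem inf_fx_one {x : H} (hx : x ∉ M) {v : V} (hg : v ∈ fx V A) (hh : v ∈ fx V (conjS x A)) :
    v ∈ Z H V :=
  hd.inf_fx (g := 1) (h := x) (by simpa using hx) (by rwa [conjS_one]) hh

theorem smul_z_mem (x : H) : x • z ∈ fx V (conjS x A) := smul_mem_fx hd.z_mem

theorem smul_z_not_Z (x : H) : x • z ∉ Z H V := fun h => hd.z_not_mem (smul_Z x h)

theorem smul_z_not_fx {x : H} (hx : x ∉ M) : x • z ∉ fx V A :=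
  fun h => hd.smul_z_not_Z x (hd.inf_fx_one hx h (hd.smul_z_mem x))

theorem quad_conj (g : H) : ∀ a ∈ conjS g A, ∀ v : V, a • v - v ∈ fx V (conjS g A) := by
  rintro _ ⟨a, ha, rfl⟩ v
  rw [mem_fx_conjS]
  show g⁻¹ • ((g * a * g⁻¹) • v - v) ∈ fx V A
  rw [mul_smul, mul_smul, smul_sub, inv_smul_smul]
  exact hd.quad a ha _

/-- The conjugates of `C_V(A)` lie in the sum of any two of them. -/
theorem decomp {x : H} (hx : x ∉ M) (y : H) {v : V} (hv : v ∈ fx V (conjS y A)) :
    ∃ c ∈ fx V A, ∃ d ∈ fx V (conjS x A), c + d = v := by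
  set Q := fx V A ⊔ fx V (conjS x A) with hQ
  let S : Subgroup H :=
    { carrier := {g | ∀ w : V, g • w - w ∈ Q}
      one_mem' := fun w => by rw [one_smul, sub_self]; exact zero_mem Q
      mul_mem' := fun {g h} hg hh w => by
        have : (g * h) • w - w = (g • (h • w) - h • w) + (h • w - w) := by rw [mul_smul]; abel
        rw [this]
        exact add_mem (hg _) (hh w)
      inv_mem' := fun {g} hg w => by
        have : g⁻¹ • w - w = -(g • (g⁻¹ • w) - g⁻¹ • w) := by rw [smul_inv_smul]; abel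
        rw [this]
        exact neg_mem (hg _) }
  have hle : A ⊔ conjS x A ≤ S := sup_le (fun a ha w => AddSubgroup.mem_sup_left (hd.quad a ha w))
    fun a ha w => AddSubgroup.mem_sup_right (hd.quad_conj x a ha w)
  rw [hd.gen x hx] at hle
  obtain ⟨c, hc, rfl⟩ := exists_smul_of_mem_fx hv
  have h := add_mem (hle (Subgroup.mem_top y) c) (AddSubgroup.mem_sup_left hc : c ∈ Q)
  rw [sub_add_cancel] at h
  exact AddSubgroup.mem_sup.1 h

theorem exists_rep {x : H} {B : Subgroup H} (hB : IsPGroup p B) (hle : B ≤ conjS x M) :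
    ∃ m ∈ M, B ≤ conjS (x * m) (T : Subgroup H) := by
  set R : Subgroup H := conjS x⁻¹ B with hR
  have hRM : R ≤ M := fun r hr => by
    have h1 := hle ((mem_conjS.1 hr))
    have h2 := mem_conjS.1 h1
    simpa [mul_assoc] using h2
  obtain ⟨Q, hQ⟩ := ((hB.map (MulAut.conj x⁻¹).toMonoidHom).of_equiv
    (Subgroup.subgroupOfEquivOfLe hRM).symm).exists_le_sylow
  obtain ⟨m, hm⟩ := MulAction.exists_smul_eq M (T.subtype hd.TM) Q
  refine ⟨m, m.2, fun b hb => ?_⟩
  have hbR : x⁻¹ * b * x ∈ R := by rw [hR, mem_conjS]; simpa [mul_assoc] using hb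
  have hbQ : (⟨_, hRM hbR⟩ : M) ∈ ((m • T.subtype hd.TM : Sylow p M) : Subgroup M) := hm ▸ hQ hbR
  obtain ⟨t, ht, hte⟩ := hbQ
  rw [mem_conjS]
  have hte' : (m : H) * (t : H) * (m : H)⁻¹ = x⁻¹ * b * x := congrArg Subtype.val hte
  have : (x * m)⁻¹ * b * (x * m) = (t : H) := by
    rw [mul_inv_rev, show (m : H)⁻¹ * x⁻¹ * b * (x * m) = (m : H)⁻¹ * (x⁻¹ * b * x) * m by group, ← hte']
    group
  rw [this]
  exact ht

theorem p_group : IsPGroup p A := T.2.to_le hd.leT

/-- An element of `A` fixing another coset fixes all of them. -/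
theorem fix_all {x : H} (hx : x ∉ M) {b : H} (hb : b ∈ A) (hbx : x⁻¹ * b * x ∈ M) (y : H) :
    y⁻¹ * b * y ∈ M := by
  by_cases hy : y ∈ M
  · exact mul_mem (mul_mem (inv_mem hy) (hd.leM hb)) hy
  obtain ⟨m, hm, hle⟩ := hd.exists_rep (x := x) (B := A ⊓ conjS x M)
    (hd.p_group.to_le inf_le_left) inf_le_right
  set x' := x * m with hx'
  have hx'M : x' ∉ M := fun h => hx (by simpa [hx'] using mul_mem h (inv_mem hm))
  have hbz : b • x' • z = x' • z := by
    have h1 : x'⁻¹ * b * x' ∈ (T : Subgroup H) := mem_conjS.1 (hle ⟨hb, mem_conjS.2 hbx⟩)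
    have h2 := hd.zT _ h1
    rwa [mul_smul, mul_smul, inv_smul_eq_iff] at h2
  obtain ⟨c, hc, d, hdd, he⟩ := hd.decomp hy x' (hd.smul_z_mem x')
  have hdfix : b • d = d := by
    rw [← he, smul_add, hc b hb, add_right_inj] at hbz
    exact hbz
  by_contra hne
  have hdZ : d ∈ Z H V := hd.inf_fx (g := y) (h := b * y) (by rwa [← mul_assoc]) hdd
    (by rw [← hdfix, ← conjS_mul]; exact smul_mem_fx hdd)
  exact hd.smul_z_not_fx hx'M (he ▸ add_mem hc (Z_le A hdZ))

/-- `A` meets the stabilisers of the other cosets trivially. -/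
theorem regular {x : H} (hx : x ∉ M) : A ⊓ conjS x M = ⊥ := by
  classical
  by_contra hne
  set B := A ⊓ conjS x M with hB
  have hBA : B ≠ A := fun h => by
    have hle : A ≤ M.normalCore := fun a ha g => by
      rw [← h] at ha
      have := hd.fix_all hx ha.1 (mem_conjS.1 ha.2) g⁻¹
      simpa using this
    have h2 : A ⊔ conjS x A ≤ M := sup_le (hle.trans M.normalCore_le) (fun g hg => M.normalCore_le (by
      obtain ⟨a, ha, rfl⟩ := hg
      exact (Subgroup.normalCore_normal M).conj_mem a (hle ha) x))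
    rw [hd.gen x hx] at h2
    exact hd.Mne (top_le_iff.1 h2)
  -- `B` fixes all the conjugates of `z`
  have hBz : ∀ b ∈ B, ∀ g : H, b • g • z = g • z := by
    intro b hb g
    have hN : b ∈ (T : Subgroup H) ⊓ M.normalCore := ⟨hd.leT hb.1, fun k => by
      have := hd.fix_all hx hb.1 (mem_conjS.1 hb.2) k⁻¹
      simpa using this⟩
    haveI := hd.frat _ M.normalCore_normal M.normalCore_le
    have h1 := Subgroup.Normal.conj_mem inferInstance b hN g⁻¹
    rw [inv_inv] at h1
    have h2 := hd.zT _ h1.1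
    rwa [mul_smul, mul_smul, inv_smul_eq_iff] at h2
  set z' := x • z
  let f : (A ⧸ B.subgroupOf A) × fx V A → fx V B := fun w =>
    ⟨(w.2 : V) + x • (((w.1.out : A) : H) • z' - z'), fun b hb => by
      have h1 : b • x • ((w.1.out : A) : H) • z' = x • ((w.1.out : A) : H) • z' := by
        simp only [z', ← mul_smul x, ← mul_smul ((w.1.out : A) : H), hBz b hb]
      have h2 : b • x • z' = x • z' := by simp only [z', ← mul_smul x, hBz b hb]
      rw [smul_add, w.2.2 b hb.1, smul_sub, smul_sub, h1, h2]⟩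
  have hf : Function.Injective f := by
    rintro ⟨α, c⟩ ⟨β, c'⟩ h
    have h' : (c : V) + x • (((α.out : A) : H) • z' - z') = c' + x • (((β.out : A) : H) • z' - z') :=
      congrArg Subtype.val h
    set a := ((α.out : A) : H)
    set a' := ((β.out : A) : H)
    have h1 : x • (a • z' - a' • z') = (c' : V) - c := by
      rw [eq_sub_iff_add_eq]
      have h2 : x • (a • z' - a' • z') = x • (a • z' - z') - x • (a' • z' - z') := by rw [← smul_sub]; congr 1; abel
      rw [h2, sub_add_eq_add_sub, sub_eq_iff_eq_add, add_comm, h']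
    have h3 : a • z' - a' • z' ∈ Z H V := by
      refine smul_Z x (hd.inf_fx_one hx (h1 ▸ sub_mem c'.2 c.2) (smul_mem_fx ?_))
      rw [show a • z' - a' • z' = (a • z' - z') - (a' • z' - z') by abel]
      exact sub_mem (hd.quad a α.out.2 z') (hd.quad a' β.out.2 z')
    have hab : (a'⁻¹ * a) ∈ conjS x M := by
      rw [mem_conjS]
      by_contra hne'
      have h4 : (a'⁻¹ * a) • z' ∈ fx V (conjS x A) := by
        have h5 : (a'⁻¹ * a) • z' = z' + (a • z' - a' • z') := by
          rw [← smul_eq_Z a'⁻¹ h3, smul_sub, inv_smul_smul, mul_smul]; abel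
        rw [h5]
        exact add_mem (hd.smul_z_mem x) (Z_le _ h3)
      have h6 := hd.inf_fx (g := x) (h := a'⁻¹ * a * x) (by rwa [← mul_assoc]) h4
        (by rw [← conjS_mul]; exact smul_mem_fx (hd.smul_z_mem x))
      exact hd.smul_z_not_Z x (smul_Z _ h6)
    obtain rfl : α = β := by
      rw [← α.out_eq, ← β.out_eq]
      refine (QuotientGroup.eq.2 (Subgroup.mem_subgroupOf.2 ?_)).symm
      exact Subgroup.mem_inf.2 ⟨mul_mem (inv_mem β.out.2) α.out.2, hab⟩
    rw [add_left_inj] at h'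
    exact Prod.ext rfl (Subtype.ext h')
  have h1 := Nat.card_le_card_of_injective f hf
  rw [Nat.card_prod] at h1
  have h2 := Subgroup.card_eq_card_quotient_mul_card_subgroup (B.subgroupOf A)
  rw [Nat.card_congr (Subgroup.subgroupOfEquivOfLe (inf_le_left : B ≤ A)).toEquiv] at h2
  have h3 := hd.strict B inf_le_left hne hBA
  rw [h2, mul_comm (Nat.card (A ⧸ B.subgroupOf A)), mul_assoc] at h3
  exact absurd (Nat.lt_of_mul_lt_mul_left h3) (not_lt.2 h1)

theorem exists_not_mem : ∃ x : H, x ∉ M := by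
  by_contra h
  push Not at h
  exact hd.Mne (eq_top_iff.2 fun x _ => h x)

/-- Two conjugates over different cosets: an element of the first moves the coset of the second. -/
theorem moves {g h : H} (hgh : g⁻¹ * h ∉ M) {a : H} (ha : a ∈ conjS g A) (ha1 : a ≠ 1) :
    h⁻¹ * (a * h) ∉ M := by
  intro hm
  refine ha1 ?_
  obtain ⟨a0, ha0, rfl⟩ := ha
  have h1 : a0 ∈ A ⊓ conjS (g⁻¹ * h) M := ⟨ha0, mem_conjS.2 (by
    have : (g⁻¹ * h)⁻¹ * a0 * (g⁻¹ * h) = h⁻¹ * (g * a0 * g⁻¹ * h) := by group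
    rw [this]; exact hm)⟩
  rw [hd.regular hgh, Subgroup.mem_bot] at h1
  rw [h1, map_one]

theorem eq_of_move {g h : H} (hgh : g⁻¹ * h ∉ M) {a : H} (ha : a ∈ conjS g A) (ha1 : a ≠ 1) {d : V}
    (hdh : d ∈ fx V (conjS h A)) (hda : a • d - d ∈ Z H V) : d ∈ Z H V := by
  refine smul_Z a (hd.inf_fx (g := h) (h := a * h) (hd.moves hgh ha ha1) ?_ ?_)
  · have : a • d = d + (a • d - d) := by abel
    rw [this]
    exact add_mem hdh (Z_le _ hda)
  · rw [← conjS_mul]; exact smul_mem_fx hdh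

theorem card_fx : Nat.card (fx V A) = Nat.card A * Nat.card (Z H V) := by
  obtain ⟨x, hx⟩ := hd.exists_not_mem
  apply le_antisymm
  · have h1 := FFEmb.card_mul_card_le (fx V A) (fx V (conjS x A))
    rw [card_fx_conjS] at h1
    have h2 : Nat.card ↥(fx V A ⊓ fx V (conjS x A)) ≤ Nat.card (Z H V) :=
      Nat.card_le_card_of_injective (fun v => ⟨(v : V), hd.inf_fx_one hx v.2.1 v.2.2⟩)
        fun v w h => Subtype.ext (by simpa using congrArg Subtype.val h)
    refine Nat.le_of_mul_le_mul_left ?_ (Nat.card_pos (α := fx V A))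
    calc Nat.card (fx V A) * Nat.card (fx V A) ≤ Nat.card V * Nat.card (Z H V) :=
          h1.trans (Nat.mul_le_mul_left _ h2)
      _ ≤ Nat.card A * Nat.card (fx V A) * Nat.card (Z H V) := Nat.mul_le_mul_right _ hd.bound
      _ = _ := by ring
  · let f : A × Z H V → fx V A := fun w =>
      ⟨((w.1 : H) • x • z - x • z) + (w.2 : V), add_mem (hd.quad _ w.1.2 _) (Z_le A w.2.2)⟩
    have hf : Function.Injective f := by
      rintro ⟨⟨a, ha⟩, u⟩ ⟨⟨b, hb⟩, u'⟩ h
      have h' : a • x • z - x • z + (u : V) = b • x • z - x • z + (u' : V) := congrArg Subtype.val h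
      have h2 : a • x • z - b • x • z = (u' : V) - u := by
        rw [← sub_eq_zero] at h' ⊢
        rw [← h']; abel
      obtain rfl : a = b := by
        by_contra hne
        refine hd.smul_z_not_Z x (hd.eq_of_move (g := 1) (h := x) (a := b⁻¹ * a) (by simpa using hx)
          (by rw [conjS_one]; exact mul_mem (inv_mem hb) ha) (fun h => hne (inv_mul_eq_one.1 h).symm)
          (hd.smul_z_mem x) ?_)
        rw [show (b⁻¹ * a) • x • z - x • z = b⁻¹ • (a • x • z - b • x • z) by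
          rw [smul_sub, inv_smul_smul, mul_smul], h2, smul_eq_Z b⁻¹ (sub_mem u'.2 u.2)]
        exact sub_mem u'.2 u.2
      rw [add_right_inj] at h'
      exact Prod.ext rfl (Subtype.ext h')
    have := Nat.card_le_card_of_injective f hf
    rwa [Nat.card_prod] at this

theorem inf_eq {g h : H} (hgh : g⁻¹ * h ∉ M) : fx V (conjS g A) ⊓ fx V (conjS h A) = Z H V :=
  le_antisymm (fun _ hv => hd.inf_fx hgh hv.1 hv.2) (le_inf (Z_le _) (Z_le _))

theorem card_V : Nat.card V = Nat.card A ^ 2 * Nat.card (Z H V) := by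
  obtain ⟨x, hx⟩ := hd.exists_not_mem
  apply le_antisymm
  · calc Nat.card V ≤ Nat.card A * Nat.card (fx V A) := hd.bound
      _ = _ := by rw [hd.card_fx]; ring
  · have h1 := FFEmb.card_mul_card_le (fx V (conjS 1 A)) (fx V (conjS x A))
    rw [hd.inf_eq (g := 1) (h := x) (by simpa using hx), card_fx_conjS, card_fx_conjS, hd.card_fx] at h1
    refine Nat.le_of_mul_le_mul_right ?_ (Nat.card_pos (α := Z H V))
    calc Nat.card A ^ 2 * Nat.card (Z H V) * Nat.card (Z H V)
        = Nat.card A * Nat.card (Z H V) * (Nat.card A * Nat.card (Z H V)) := by ring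
      _ ≤ _ := h1

/-- Conjugates over different cosets are in opposite position. -/
theorem pair {g h : H} (hgh : g⁻¹ * h ∉ M) : PairData V (conjS g A) (conjS h A) := by
  set C := fx V (conjS g A)
  set D := fx V (conjS h A)
  have hinf := hd.inf_eq hgh
  have hcard : Nat.card C = Nat.card (conjS g A) * Nat.card (Z H V) := by
    rw [card_fx_conjS, card_conjS, hd.card_fx]
  have hcardD : Nat.card D = Nat.card (conjS g A) * Nat.card (Z H V) := by
    rw [card_fx_conjS, card_conjS, hd.card_fx]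
  let σ : C × D →+ V :=
    { toFun := fun w => (w.1 : V) + w.2
      map_zero' := by simp
      map_add' := fun w w' => by simp only [Prod.fst_add, Prod.snd_add, AddSubgroup.coe_add]; abel }
  have htop : σ.range = ⊤ := by
    refine AddSubgroup.eq_top_of_le_card _ (Nat.le_of_mul_le_mul_right ?_ (Nat.card_pos (α := σ.ker)))
    have h1 := AddSubgroup.card_mul_index σ.ker
    rw [AddSubgroup.index_ker, mul_comm, Nat.card_prod, hcard, hcardD] at h1
    rw [h1, hd.card_V, card_conjS]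
    have h2 : Nat.card σ.ker ≤ Nat.card (Z H V) := by
      refine Nat.card_le_card_of_injective (fun w => ⟨(w.1.1 : V), hd.inf_fx hgh w.1.1.2 ?_⟩) ?_
      · have hw : (w.1.1 : V) + w.1.2 = 0 := w.2
        rw [eq_neg_of_add_eq_zero_left hw]
        exact D.neg_mem w.1.2.2
      · rintro ⟨⟨c, d⟩, hw⟩ ⟨⟨c', d'⟩, hw'⟩ he
        have he' : (c : V) = c' := congrArg (fun u : Z H V => (u : V)) he
        have e1 : (c : V) + d = 0 := hw
        have e2 : (c' : V) + d' = 0 := hw'
        rw [he'] at e1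
        exact Subtype.ext (Prod.ext (Subtype.ext he') (Subtype.ext (add_left_cancel (e1.trans e2.symm))))
    calc Nat.card A ^ 2 * Nat.card (Z H V) * Nat.card σ.ker ≤ Nat.card A ^ 2 * Nat.card (Z H V) * Nat.card (Z H V) :=
          Nat.mul_le_mul_left _ h2
      _ = _ := by ring
  have hadd : ∀ v : V, ∃ c ∈ C, ∃ d ∈ D, c + d = v := fun v => by
    obtain ⟨⟨c, d⟩, hcd⟩ := (htop ▸ AddSubgroup.mem_top v : v ∈ σ.range)
    exact ⟨c, c.2, d, d.2, hcd⟩
  refine ⟨?_, ?_, ?_, hadd, fun a ha ha1 v hv => ?_, fun a ha v hv => ?_⟩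
  · rw [hinf, card_conjS, hd.card_V]
  · rw [hinf]; exact hcard
  · rw [hinf]; exact hcardD
  · obtain ⟨c, hc, d, hd', rfl⟩ := hadd v
    rw [smul_add, hc a ha, add_right_inj] at hv
    exact add_mem hc (Z_le _ (hd.eq_of_move hgh ha ha1 hd' (by rw [hv, sub_self]; exact zero_mem _)))
  · rcases eq_or_ne a 1 with rfl | ha1
    · exact one_smul H v
    obtain ⟨c, hc, d, hd', rfl⟩ := hadd v
    have he : a • (c + d) - (c + d) = a • d - d := by rw [smul_add, hc a ha]; abel
    rw [he] at hv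
    have h2 := hd.eq_of_move hgh ha ha1 hd' (hd.inf_fx hgh (hd.quad_conj g a ha d) hv)
    rw [smul_add, hc a ha, smul_eq_Z a h2]

/-- The displacements of a vector of another conjugate fill `C_V(A)`. -/
theorem exists_displacement {x : H} (hx : x ∉ M) {d : V} (hdd : d ∈ fx V (conjS x A)) (hdZ : d ∉ Z H V)
    {c : V} (hc : c ∈ fx V A) : ∃ a ∈ A, ∃ u ∈ Z H V, a • d - d + u = c := by
  let f : A × Z H V → fx V A := fun w =>
    ⟨((w.1 : H) • d - d) + (w.2 : V), add_mem (hd.quad _ w.1.2 _) (Z_le A w.2.2)⟩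
  have hf : Function.Injective f := by
    rintro ⟨⟨a, ha⟩, u⟩ ⟨⟨b, hb⟩, u'⟩ h
    have h' : a • d - d + (u : V) = b • d - d + (u' : V) := congrArg Subtype.val h
    have h2 : a • d - b • d = (u' : V) - u := by
      rw [← sub_eq_zero] at h' ⊢
      rw [← h']; abel
    obtain rfl : a = b := by
      by_contra hne
      refine hdZ (hd.eq_of_move (g := 1) (h := x) (a := b⁻¹ * a) (by simpa using hx)
        (by rw [conjS_one]; exact mul_mem (inv_mem hb) ha) (fun h => hne (inv_mul_eq_one.1 h).symm) hdd ?_)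
      rw [show (b⁻¹ * a) • d - d = b⁻¹ • (a • d - b • d) by rw [smul_sub, inv_smul_smul, mul_smul], h2,
        smul_eq_Z b⁻¹ (sub_mem u'.2 u.2)]
      exact sub_mem u'.2 u.2
    rw [add_right_inj] at h'
    exact Prod.ext rfl (Subtype.ext h')
  obtain ⟨⟨a, u⟩, h⟩ := ((Nat.bijective_iff_injective_and_card f).2
    ⟨hf, by rw [Nat.card_prod, hd.card_fx]⟩).2 ⟨c, hc⟩
  exact ⟨a, a.2, u, u.2, congrArg Subtype.val h⟩

/-- A vector of any conjugate outside `C_V(A)` lies in an `A`-translate of a given conjugate. -/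
theorem mem_translate {x : H} (hx : x ∉ M) (y : H) {v : V} (hv : v ∈ fx V (conjS y A)) (hvA : v ∉ fx V A) :
    ∃ a ∈ A, v ∈ fx V (conjS (a * x) A) := by
  obtain ⟨c, hc, d, hdd, rfl⟩ := hd.decomp hx y hv
  have hdZ : d ∉ Z H V := fun h => hvA (add_mem hc (Z_le A h))
  obtain ⟨a, ha, u, hu, rfl⟩ := hd.exists_displacement hx hdd hdZ hc
  refine ⟨a, ha, ?_⟩
  rw [show a • d - d + u + d = a • d + u by abel, ← conjS_mul]
  exact add_mem (smul_mem_fx hdd) (Z_le _ hu)

theorem fx_invariant {m : H} (hm : m ∈ M) {v : V} (hv : v ∈ fx V A) : m • v ∈ fx V A := by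
  by_contra h
  obtain ⟨x, hx⟩ := hd.exists_not_mem
  obtain ⟨a, ha, h2⟩ := hd.mem_translate hx m (smul_mem_fx hv) h
  refine h (Z_le A (hd.inf_fx (g := m) (h := a * x) (fun h3 => hx ?_) (smul_mem_fx hv) h2))
  have h4 := mul_mem (mul_mem (inv_mem (hd.leM ha)) hm) h3
  rwa [show a⁻¹ * m * (m⁻¹ * (a * x)) = x by group] at h4

theorem exists_translate {x : H} (hx : x ∉ M) {y : H} (hy : y ∉ M) : ∃ a ∈ A, y⁻¹ * (a * x) ∈ M := by
  obtain ⟨a, ha, h⟩ := hd.mem_translate hx y (hd.smul_z_mem y) (hd.smul_z_not_fx hy)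
  exact ⟨a, ha, by_contra fun hne => hd.smul_z_not_Z y (hd.inf_fx hne (hd.smul_z_mem y) h)⟩

/-- Only the identity is trivial modulo the fixed vectors. -/
theorem eq_one_of_Z {g : H} (hg : ∀ v : V, g • v - v ∈ Z H V) : g = 1 := by
  let K : Subgroup H :=
    { carrier := {g | ∀ v : V, g • v - v ∈ Z H V}
      one_mem' := fun v => by rw [one_smul, sub_self]; exact zero_mem _
      mul_mem' := fun {g h} hg hh w => by
        have : (g * h) • w - w = (g • (h • w) - h • w) + (h • w - w) := by rw [mul_smul]; abel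
        rw [this]
        exact add_mem (hg _) (hh w)
      inv_mem' := fun {g} hg w => by
        have : g⁻¹ • w - w = -(g • (g⁻¹ • w) - g⁻¹ • w) := by rw [smul_inv_smul]; abel
        rw [this]
        exact neg_mem (hg _) }
  haveI hKn : K.Normal := ⟨fun k hk h v => by
    have : (h * k * h⁻¹) • v - v = h • (k • (h⁻¹ • v) - h⁻¹ • v) := by
      rw [smul_sub, smul_inv_smul, mul_smul, mul_smul]
    rw [this, smul_eq_Z h (hk _)]
    exact hk _⟩
  have hKp : IsPGroup p K := by
    rintro ⟨k, hk⟩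
    obtain ⟨e, he⟩ : ∃ e : ℕ, ∀ v : V, p ^ e • v = 0 := by
      haveI := Fintype.ofFinite V
      choose κ hκ using hd.ppow
      refine ⟨Finset.univ.sup κ, fun v => ?_⟩
      obtain ⟨j, hj⟩ := Nat.exists_eq_add_of_le (Finset.le_sup (f := κ) (Finset.mem_univ v))
      rw [hj, pow_add, mul_comm, mul_smul, hκ, smul_zero]
    refine ⟨e, Subtype.ext (hd.faith _ fun v => ?_)⟩
    rw [SubmonoidClass.coe_pow]
    have h : ∀ n : ℕ, k ^ n • v = v + n • (k • v - v) := by
      intro n
      induction n with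
      | zero => simp
      | succ n ih => rw [pow_succ', mul_smul, ih, smul_add, smul_eq_Z k (nsmul_mem (hk v) n), succ_nsmul]; abel
    show k ^ p ^ e • v = v
    rw [h, he, add_zero]
  have hKT : K ≤ (T : Subgroup H) := by
    obtain ⟨Q, hQ⟩ := hKp.exists_le_sylow
    obtain ⟨h, rfl⟩ := MulAction.exists_smul_eq H Q T
    intro k hk
    refine ⟨h⁻¹ * k * h, hQ ?_, by simp [mul_assoc]⟩
    simpa using hKn.conj_mem k hk h⁻¹
  have hfixz : ∀ y : H, g • y • z = y • z := fun y => by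
    have h1 := hKn.conj_mem g hg y⁻¹
    rw [inv_inv] at h1
    have h2 := hd.zT _ (hKT h1)
    rwa [mul_smul, mul_smul, inv_smul_eq_iff] at h2
  obtain ⟨x, hx⟩ := hd.exists_not_mem
  have hfixA : ∀ k : H, k ∈ K → (∀ y : H, k • y • z = y • z) → ∀ c ∈ fx V A, k • c = c := by
    intro k _ hk c hc
    obtain ⟨a, -, u, hu, rfl⟩ := hd.exists_displacement hx (hd.smul_z_mem x) (hd.smul_z_not_Z x) hc
    rw [smul_add, smul_eq_Z k hu, smul_sub, ← mul_smul a x z, hk (a * x), hk x]
  refine hd.faith g fun v => ?_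
  obtain ⟨c, hc, d, hdd, rfl⟩ := (hd.pair (g := 1) (h := x) (by simpa using hx)).exists_add v
  rw [conjS_one] at hc
  obtain ⟨c', hc', rfl⟩ := exists_smul_of_mem_fx hdd
  rw [smul_add, hfixA g hg hfixz c hc]
  have hgx : x⁻¹ * g * x ∈ K := by simpa using hKn.conj_mem g hg x⁻¹
  have h3 := hfixA _ hgx (fun y => by
    rw [mul_smul, mul_smul, ← mul_smul x y, hfixz, mul_smul, inv_smul_smul]) c' hc'
  rw [mul_smul, mul_smul, inv_smul_eq_iff] at h3
  rw [h3]

theorem chain_le : FFEmb.chain (H := H) (fx V A) ≤ A := by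
  set C := fx V A with hC
  have hAch : A ≤ FFEmb.chain C := fun a ha => ⟨fun c hc => hc a ha, hd.quad a ha⟩
  have hM : FFEmb.chain C ≤ M := by
    intro g hg
    by_contra hgM
    have hle : A ⊔ conjS g A ≤ FFEmb.chain C :=
      sup_le hAch (fun k hk => by
        obtain ⟨a, ha, rfl⟩ := hk
        exact mul_mem (mul_mem hg (hAch ha)) (inv_mem hg))
    rw [hd.gen g hgM] at hle
    exact hd.z_not_mem fun k _ => (hle (Subgroup.mem_top k)).1 z hd.z_mem
  intro g hg
  obtain ⟨x, hx⟩ := hd.exists_not_mem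
  have hgx : g * x ∉ M := fun h => hx (by simpa using mul_mem (inv_mem (hM hg)) h)
  obtain ⟨a, ha, hm⟩ := hd.exists_translate hx hgx
  suffices g⁻¹ * a = 1 by rw [inv_mul_eq_one] at this; rwa [this]
  have hh : g⁻¹ * a ∈ FFEmb.chain C := mul_mem (inv_mem hg) (hAch ha)
  refine hd.eq_one_of_Z fun v => ?_
  obtain ⟨c, hc, d, hdd, rfl⟩ := (hd.pair (g := 1) (h := x) (by simpa using hx)).exists_add v
  rw [conjS_one] at hc
  obtain ⟨c', hc', rfl⟩ := exists_smul_of_mem_fx hdd
  rw [smul_add, hh.1 c hc, show c + (g⁻¹ * a) • x • c' - (c + x • c') = (g⁻¹ * a) • x • c' - x • c' by abel]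
  refine hd.inf_fx_one hx (hh.2 _) (sub_mem ?_ (smul_mem_fx hc'))
  rw [← mul_smul, show g⁻¹ * a * x = x * ((g * x)⁻¹ * (a * x)) by group, mul_smul]
  exact smul_mem_fx (hd.fx_invariant hm hc')

theorem normal_in_M {m : H} (hm : m ∈ M) : conjS m A = A := by
  refine Subgroup.eq_of_le_of_card_ge (le_trans (fun k hk => ?_) hd.chain_le) (by rw [card_conjS])
  obtain ⟨a, ha, rfl⟩ := hk
  show m * a * m⁻¹ ∈ FFEmb.chain (fx V A)
  have key : ∀ v : V, (m * a * m⁻¹) • v - v = m • (a • (m⁻¹ • v) - m⁻¹ • v) := fun v => by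
    rw [smul_sub, smul_inv_smul, mul_smul, mul_smul]
  refine ⟨fun c hc => ?_, fun v => by rw [key]; exact hd.fx_invariant hm (hd.quad a ha _)⟩
  rw [← sub_eq_zero, key, hd.fx_invariant (inv_mem hm) hc a ha, sub_self, smul_zero]

/-- `A` is elementary and multiplication by `p` moves `V` into `C_V(A)`. -/
theorem elementary : (∀ a ∈ A, a ^ p = 1) ∧ ∀ v : V, p • v ∈ fx V A := by
  classical
  obtain ⟨x, hx⟩ := hd.exists_not_mem
  have hx1 : (1 : H)⁻¹ * x ∉ M := by simpa using hx
  have hpow : ∀ a ∈ A, ∀ (n : ℕ) (v : V), a ^ n • v = v + n • (a • v - v) := by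
    intro a ha n v
    induction n with
    | zero => simp
    | succ n ih => rw [pow_succ', mul_smul, ih, smul_add, nsmul_mem (hd.quad a ha v) n a ha, succ_nsmul]; abel
  have hlin : ∀ a : H, ∀ v : V, a • (p • v) - p • v = p • (a • v - v) := by
    intro a v
    rw [smul_sub, ← DistribSMul.toAddMonoidHom_apply (A := V) a (p • v), map_nsmul, DistribSMul.toAddMonoidHom_apply]
  obtain ⟨d, hdd, hdZ, hpd⟩ : ∃ d ∈ fx V (conjS x A), d ∉ Z H V ∧ p • d ∈ Z H V := by
    have hex : ∃ k : ℕ, p ^ k • (x • z) ∈ Z H V := ⟨_, by rw [(hd.ppow _).choose_spec]; exact zero_mem _⟩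
    have h0 : Nat.find hex ≠ 0 := fun h => hd.smul_z_not_Z x (by
      have := Nat.find_spec hex
      rwa [h, pow_zero, one_smul] at this)
    obtain ⟨k, hk⟩ := Nat.exists_eq_succ_of_ne_zero h0
    refine ⟨p ^ k • (x • z), nsmul_mem (hd.smul_z_mem x) _, Nat.find_min hex (by omega), ?_⟩
    have := Nat.find_spec hex
    rwa [hk, pow_succ', mul_smul] at this
  have helem : ∀ a ∈ A, a ^ p = 1 := by
    intro a ha
    by_contra hne
    refine hdZ (hd.eq_of_move (g := 1) (h := x) hx1 (by rw [conjS_one]; exact pow_mem ha p) hne hdd ?_)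
    rw [hpow a ha, add_sub_cancel_left, ← hlin, smul_eq_Z a hpd, sub_self]
    exact zero_mem _
  refine ⟨helem, fun v => ?_⟩
  obtain ⟨a, ha, ha1⟩ := (Subgroup.bot_or_exists_ne_one A).resolve_left hd.Ane
  obtain ⟨c, hc, d', hd', rfl⟩ := (hd.pair hx1).exists_add v
  rw [conjS_one] at hc
  rw [smul_add]
  refine add_mem (nsmul_mem hc p) (Z_le A (hd.eq_of_move (g := 1) (h := x) hx1
    (by rw [conjS_one]; exact ha) ha1 (nsmul_mem hd' p) ?_))
  have h := hpow a ha p d'
  rw [helem a ha, one_smul, left_eq_add] at h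
  rw [hlin, h]
  exact zero_mem _

/-- The group is `SL₂(q)` and `V` modulo the fixed vectors is the natural module. -/
theorem natural :
    ∃ (K : Type) (_ : Field K) (_ : Fintype K) (ρ : H ≃* Matrix.SpecialLinearGroup (Fin 2) K)
      (ψ : V →+ (Fin 2 → K)), Fintype.card K = Nat.card A ∧ Function.Surjective ψ ∧
      (∀ v, ψ v = 0 ↔ ∀ g : H, g • v = v) ∧
      (∀ (g : H) (v : V), ψ (g • v) = ((ρ g : Matrix.SpecialLinearGroup (Fin 2) K) : Matrix (Fin 2) (Fin 2) K).mulVec (ψ v)) ∧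
      (∀ v, v ∈ fx V A ↔ ψ v 1 = 0) := by
  obtain ⟨x, hx⟩ := hd.exists_not_mem
  have h1x : (1 : H)⁻¹ * x ∉ M := by simpa using hx
  have hx1 : x⁻¹ * 1 ∉ M := by simpa using hx
  have hP := hd.pair h1x
  have hP' := hd.pair hx1
  rw [conjS_one] at hP hP'
  refine FFEmb.natural_core hd.elementary.2 hd.faith hd.Ane hd.quad (hd.quad_conj x) (card_conjS x A) hP hP'
    (hd.gen x hx) (fun b hb hb1 => ?_) fun g hg => hd.eq_one_of_Z fun v => hd.inf_fx_one hx (hg v).1 (hg v).2
  have hbM : b ∉ M := fun h => hd.moves hx1 hb hb1 (by simpa using h)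
  obtain ⟨a, ha, hm⟩ := hd.exists_translate hx hbM
  refine ⟨a, ha, ?_⟩
  rw [conjS_mul, show a * x = b * (b⁻¹ * (a * x)) by group, ← conjS_mul, hd.normal_in_M hm]

end Data

end Cfsg.Agent.PMinFF
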